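import Mathlib
import Cfsg.Agent.Lib.CFun.OddZgroupLength

/-!
# Decompositions of a coprime module

Norm maps of groups of automorphisms of a finite commutative group, independent families of
subgroups, and the two standard decompositions (fixed points plus norm kernel; fixed points of
hyperplanes of an elementary abelian group).
-/

set_option autoImplicit false
set_option linter.style.haveILetI false

namespace CfsgLib.FreeVec

open Finset

variable {V : Type*} [CommGroup V]

/-- The norm of the cyclic group generated by an element of order dividing `p`. -/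
def sn (p : ℕ) (x : MulAut V) (v : V) : V := ∏ k ∈ Finset.range p, (x ^ k) v

/-- The norm map of a finite group of automorphisms. -/
noncomputable def gn [Finite V] (A : Subgroup (MulAut V)) (v : V) : V :=
  letI := Fintype.ofFinite A
  ∏ a : A, (a : MulAut V) v

/-- The fixed points. -/
def fixd (A : Subgroup (MulAut V)) : Subgroup V where
  carrier := {v | ∀ a ∈ A, a v = v}
  one_mem' := fun a _ => map_one a
  mul_mem' := fun {v w} hv hw a ha => by rw [map_mul, hv a ha, hw a ha]
  inv_mem' := fun {v} hv a ha => by rw [map_inv, hv a ha]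

theorem mem_fixd {A : Subgroup (MulAut V)} {v : V} : v ∈ fixd A ↔ ∀ a ∈ A, a v = v := Iff.rfl

/-- The fixed points of one automorphism. -/
def fix1 (x : MulAut V) : Subgroup V where
  carrier := {v | x v = v}
  one_mem' := map_one x
  mul_mem' := fun {v w} hv hw => by
    show x (v * w) = v * w
    rw [map_mul]; congr 1
  inv_mem' := fun {v} hv => by
    show x v⁻¹ = v⁻¹
    rw [map_inv]; congr 1

theorem mem_fix1 {x : MulAut V} {v : V} : v ∈ fix1 x ↔ x v = v := Iff.rfl

theorem mem_fix1_of_fix {x : MulAut V} {v : V} (h : x v = v) (k : ℕ) : (x ^ k) v = v := by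
  induction k with
  | zero => rw [pow_zero]; rfl
  | succ k ih => rw [pow_succ, MulAut.mul_apply, h, ih]

theorem fix1_le_fixd_zpowers {x : MulAut V} [Finite V] {v : V} (h : x v = v) :
    v ∈ fixd (Subgroup.zpowers x) := fun a ha => by
  obtain ⟨k, rfl⟩ := mem_powers_iff_mem_zpowers.2 ha
  exact mem_fix1_of_fix h k

theorem sn_of_fix {p : ℕ} {x : MulAut V} {v : V} (h : x v = v) : sn p x v = v ^ p := by
  unfold sn
  rw [Finset.prod_congr rfl fun k _ => mem_fix1_of_fix h k, prod_const, card_range]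

theorem sn_fixed {p : ℕ} {x : MulAut V} (hx : x ^ p = 1) (v : V) : x (sn p x v) = sn p x v := by
  unfold sn
  rw [map_prod]
  simp only [← MulAut.mul_apply, ← pow_succ']
  rcases Nat.eq_zero_or_pos p with rfl | hp
  · simp
  obtain ⟨q, rfl⟩ : ∃ q, p = q + 1 := ⟨p - 1, by omega⟩
  rw [prod_range_succ, prod_range_succ' (fun k => (x ^ k) v), hx, pow_zero]

theorem sn_map {p : ℕ} (x y : MulAut V) (v : V) :
    y (sn p x v) = sn p (y * x * y⁻¹) (y v) := by
  unfold sn
  rw [map_prod]
  refine Finset.prod_congr rfl fun k _ => ?_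
  rw [conj_pow, MulAut.mul_apply, MulAut.mul_apply, MulAut.inv_apply_self]

theorem sn_fix_of_commute {p : ℕ} {x g : MulAut V} (hc : Commute g x) {v : V} (h : g v = v) :
    g (sn p x v) = sn p x v := by
  rw [sn_map, hc.eq, mul_inv_cancel_right, h]

/-- The identity relating the norms of the subgroups of order `p` of `⟨x, z⟩`. -/
theorem sn_identity {p : ℕ} (hp : p.Prime) {x z : MulAut V} (hc : Commute x z) (hz : z ^ p = 1)
    (v : V) :
    (∏ i ∈ Finset.range p, sn p (x * z ^ i) v) * sn p z v =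
      v ^ p * ∏ k ∈ Finset.range p, (x ^ k) (sn p z v) := by
  have hpow : ∀ i k : ℕ, (x * z ^ i) ^ k = x ^ k * z ^ (i * k) := fun i k => by
    rw [(hc.pow_right i).mul_pow, pow_mul]
  unfold sn
  rw [Finset.prod_comm]
  simp only [hpow]
  obtain ⟨q, hq⟩ : ∃ q, p = q + 1 := ⟨p - 1, by have := hp.pos; omega⟩
  have hk : ∀ k ∈ Finset.range q, (∏ i ∈ Finset.range p, (x ^ (k + 1) * z ^ (i * (k + 1))) v) =
      (x ^ (k + 1)) (∏ i ∈ Finset.range p, (z ^ i) v) := by
    intro k hk
    rw [map_prod]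
    have hk' := Finset.mem_range.1 hk
    have hinj : Set.InjOn (fun i => i * (k + 1) % p) (Finset.range p) := by
      intro i hi j hj hij
      have hcop : Nat.Coprime p (k + 1) :=
        hp.coprime_iff_not_dvd.2 (Nat.not_dvd_of_pos_of_lt (by omega) (by omega))
      have h1 : i ≡ j [MOD p] :=
        Nat.ModEq.cancel_right_of_coprime (m := p) (c := k + 1) hcop hij
      exact Nat.ModEq.eq_of_lt_of_lt h1 (Finset.mem_range.1 hi) (Finset.mem_range.1 hj)
    have himg : (Finset.range p).image (fun i => i * (k + 1) % p) = Finset.range p := by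
      refine Finset.eq_of_subset_of_card_le (fun a ha => ?_) ?_
      · obtain ⟨i, -, rfl⟩ := Finset.mem_image.1 ha
        exact Finset.mem_range.2 (Nat.mod_lt _ hp.pos)
      · rw [Finset.card_image_of_injOn hinj]
    conv_rhs => rw [← himg, Finset.prod_image hinj]
    refine Finset.prod_congr rfl fun i _ => ?_
    rw [MulAut.mul_apply]
    congr 2
    exact pow_eq_pow_mod _ hz
  calc (∏ k ∈ Finset.range p, ∏ i ∈ Finset.range p, (x ^ k * z ^ (i * k)) v) *
        ∏ k ∈ Finset.range p, (z ^ k) v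
      = (∏ k ∈ Finset.range q, (x ^ (k + 1)) (∏ i ∈ Finset.range p, (z ^ i) v)) * v ^ p *
        ∏ k ∈ Finset.range p, (z ^ k) v := by
          congr 1
          conv_lhs => rw [show Finset.range p = Finset.range (q + 1) from by rw [hq],
            prod_range_succ']
          congr 1
          · rw [← hq]; exact Finset.prod_congr rfl hk
          · simp [hq, prod_const]
    _ = _ := by
          conv_rhs => rw [show Finset.range p = Finset.range (q + 1) from by rw [hq],
            prod_range_succ' (fun k => (x ^ k) _), pow_zero, MulAut.one_apply]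
          rw [← hq, mul_comm _ (v ^ p), mul_assoc]

theorem eq_one_of_pow {p n : ℕ} [Finite V] (hV : (Nat.card V).Coprime p) (hn : ∃ k, n = p ^ k)
    {v : V} (h : v ^ n = 1) : v = 1 := by
  obtain ⟨k, rfl⟩ := hn
  rw [← orderOf_eq_one_iff]
  exact Nat.eq_one_of_dvd_coprimes (hV.pow_right k) (orderOf_dvd_natCard v)
    (orderOf_dvd_of_pow_eq_one h)

theorem mem_of_pow_mem {p n : ℕ} [Finite V] (hV : (Nat.card V).Coprime p) (hn : ∃ k, n = p ^ k)
    {S : Subgroup V} {v : V} (h : v ^ n ∈ S) : v ∈ S := by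
  obtain ⟨k, rfl⟩ := hn
  have hc : Nat.Coprime (p ^ k) (orderOf v) :=
    ((hV.pow_right k).coprime_dvd_left (orderOf_dvd_natCard v)).symm
  obtain ⟨m, hm⟩ := exists_pow_eq_self_of_coprime hc
  rw [← hm]
  exact pow_mem h m

theorem gn_eq [Finite V] (A : Subgroup (MulAut V)) [Fintype A] (v : V) :
    gn A v = ∏ a : A, (a : MulAut V) v := by
  unfold gn
  congr 1
  ext; simp

theorem gn_fixed [Finite V] (A : Subgroup (MulAut V)) (v : V) : gn A v ∈ fixd A := by
  intro b hb
  letI := Fintype.ofFinite A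
  rw [gn_eq, map_prod]
  exact Fintype.prod_equiv (Equiv.mulLeft (⟨b, hb⟩ : A)) _ _ fun a => rfl

theorem gn_of_fix [Finite V] {A : Subgroup (MulAut V)} {v : V} (h : v ∈ fixd A) :
    gn A v = v ^ Nat.card A := by
  letI := Fintype.ofFinite A
  rw [gn_eq, Finset.prod_congr rfl (fun (a : A) _ => h _ a.property), prod_const, card_univ,
    Nat.card_eq_fintype_card]

theorem gn_mul [Finite V] (A : Subgroup (MulAut V)) (v w : V) :
    gn A (v * w) = gn A v * gn A w := by
  letI := Fintype.ofFinite A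
  simp only [gn_eq, map_mul, prod_mul_distrib]

theorem gn_map [Finite V] {A : Subgroup (MulAut V)} {g : MulAut V}
    (hg : ∀ a ∈ A, g * a * g⁻¹ ∈ A) (v : V) : g (gn A v) = gn A (g v) := by
  letI := Fintype.ofFinite A
  rw [gn_eq, gn_eq, map_prod]
  let e : A → A := fun a => ⟨g * a * g⁻¹, hg a a.2⟩
  have he : Function.Bijective e := Finite.injective_iff_bijective.1 fun a b h =>
    Subtype.ext (mul_left_cancel (mul_right_cancel (congrArg Subtype.val h)))
  refine Fintype.prod_bijective e he _ _ fun a => ?_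
  show g ((a : MulAut V) v) = (g * (a : MulAut V) * g⁻¹) (g v)
  rw [MulAut.mul_apply, MulAut.mul_apply, MulAut.inv_apply_self]

theorem fixd_map {A : Subgroup (MulAut V)} {g : MulAut V} (hg : ∀ a ∈ A, g⁻¹ * a * g ∈ A)
    {v : V} (hv : v ∈ fixd A) : g v ∈ fixd A := fun a ha => by
  have := congrArg g (hv _ (hg a ha))
  simpa [MulAut.mul_apply] using this

/-- Independence of a finite family of subgroups. -/
def Indep (𝒲 : Finset (Subgroup V)) : Prop :=
  ∀ f : Subgroup V → V, (∀ W ∈ 𝒲, f W ∈ W) → ∏ W ∈ 𝒲, f W = 1 → ∀ W ∈ 𝒲, f W = 1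

theorem Indep.eq_of_mem {𝒲 : Finset (Subgroup V)} (h : Indep 𝒲) {W W' : Subgroup V}
    (hW : W ∈ 𝒲) (hW' : W' ∈ 𝒲) {v : V} (hv : v ∈ W) (hv' : v ∈ W') (hne : v ≠ 1) : W = W' := by
  classical
  by_contra hWW
  have := h (fun U => if U = W then v else if U = W' then v⁻¹ else 1) ?_ ?_ W hW
  · simp at this; exact hne this
  · intro U _
    by_cases h1 : U = W
    · simp [h1, hv]
    · by_cases h2 : U = W'
      · simp [h2, Ne.symm hWW, hv']
      · simp [h1, h2]
  · rw [← Finset.prod_subset (s₁ := {W, W'}) (by simp [Finset.insert_subset_iff, hW, hW'])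
      (fun U _ hU => ?_)]
    · simp [hWW, Ne.symm hWW]
    · simp at hU
      simp [hU.1, hU.2]

theorem exists_expr (𝒲 : Finset (Subgroup V)) {v : V} (hv : v ∈ 𝒲.sup id) :
    ∃ f : Subgroup V → V, (∀ W ∈ 𝒲, f W ∈ W) ∧ ∏ W ∈ 𝒲, f W = v := by
  classical
  induction 𝒲 using Finset.induction generalizing v with
  | empty =>
    simp only [Finset.sup_empty, Subgroup.mem_bot] at hv
    exact ⟨fun _ => 1, by simp, by simp [hv]⟩
  | insert W s hW ih =>
    rw [Finset.sup_insert, id, Subgroup.mem_sup] at hv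
    obtain ⟨a, ha, b, hb, rfl⟩ := hv
    obtain ⟨f, hf, hfb⟩ := ih hb
    refine ⟨Function.update f W a, fun U hU => ?_, ?_⟩
    · by_cases h : U = W
      · subst h; simpa using ha
      · rw [Function.update_of_ne h]
        exact hf U (Finset.mem_of_mem_insert_of_ne hU h)
    · rw [prod_insert hW, Function.update_self]
      congr 1
      rw [← hfb]
      exact Finset.prod_congr rfl fun U hU =>
        Function.update_of_ne (ne_of_mem_of_not_mem hU hW) _ _

/-- A nontrivial decomposition, stable under a set of automorphisms. -/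
structure IsPart (K : Set (MulAut V)) (𝒰 : Finset (Subgroup V)) : Prop where
  ne_bot : ∀ U ∈ 𝒰, U ≠ ⊥
  indep : Indep 𝒰
  sup_eq : 𝒰.sup id = ⊤
  two_le : 2 ≤ 𝒰.card
  stable : ∀ k ∈ K, ∀ U ∈ 𝒰, U.map k.toMonoidHom ∈ 𝒰

theorem exists_part_fixed [Finite V] {p : ℕ} (hV : (Nat.card V).Coprime p)
    (A : Subgroup (MulAut V)) (hA : ∃ k, Nat.card A = p ^ k) (hne : A ≠ ⊥) (hfix : fixd A ≠ ⊥)
    (K : Subgroup (MulAut V)) (hK : ∀ g ∈ K, ∀ a ∈ A, g * a * g⁻¹ ∈ A) :
    ∃ 𝒰, IsPart (K : Set (MulAut V)) 𝒰 := by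
  classical
  let N : Subgroup V := (MonoidHom.mk' (gn A) (gn_mul A)).ker
  have hmemN : ∀ v, v ∈ N ↔ gn A v = 1 := fun v => Iff.rfl
  have hdis : ∀ v, v ∈ fixd A → v ∈ N → v = 1 := fun v h1 h2 => by
    rw [hmemN, gn_of_fix h1] at h2
    exact eq_one_of_pow hV hA h2
  have hrest : ∀ v, v ^ Nat.card A * (gn A v)⁻¹ ∈ N := fun v => by
    have h1 := map_pow (MonoidHom.mk' (gn A) (gn_mul A)) v (Nat.card A)
    have h2 := map_inv (MonoidHom.mk' (gn A) (gn_mul A)) (gn A v)
    simp only [MonoidHom.mk'_apply] at h1 h2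
    rw [hmemN, gn_mul, h1, h2, gn_of_fix (gn_fixed A v), mul_inv_cancel]
  have hN0 : N ≠ ⊥ := by
    intro h0
    refine hne ((Subgroup.eq_bot_iff_forall _).2 fun a ha => MulEquiv.ext fun v => ?_)
    refine (mem_of_pow_mem hV hA (S := fixd A) (v := v) ?_) a ha
    have h1 := hrest v
    rw [h0, Subgroup.mem_bot, mul_inv_eq_one] at h1
    rw [h1]
    exact gn_fixed A v
  have hdiff : fixd A ≠ N := fun h => hfix ((Subgroup.eq_bot_iff_forall _).2 fun v hv =>
    hdis v hv (h ▸ hv))
  refine ⟨{fixd A, N}, ⟨?_, ?_, ?_, ?_, ?_⟩⟩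
  · simp [hfix, hN0]
  · intro f hf hprod W hW
    rw [prod_pair hdiff] at hprod
    have h1 := hf _ (by simp : fixd A ∈ ({fixd A, N} : Finset _))
    have h2 := hf _ (by simp : N ∈ ({fixd A, N} : Finset _))
    have e : f (fixd A) = (f N)⁻¹ := eq_inv_of_mul_eq_one_left hprod
    have h3 : f (fixd A) = 1 := hdis _ h1 (e ▸ inv_mem h2)
    simp only [Finset.mem_insert, Finset.mem_singleton] at hW
    rcases hW with rfl | rfl
    · exact h3
    · rw [h3] at e; exact inv_eq_one.1 e.symm
  · rw [eq_top_iff]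
    intro v _
    refine mem_of_pow_mem hV hA ?_
    simp only [Finset.sup_insert, Finset.sup_singleton, id]
    have e : v ^ Nat.card A = gn A v * (v ^ Nat.card A * (gn A v)⁻¹) := by
      rw [mul_comm (gn A v), inv_mul_cancel_right]
    rw [e]
    exact Subgroup.mul_mem_sup (gn_fixed A v) (hrest v)
  · rw [card_pair hdiff]
  · intro g hg U hU
    have hg' : ∀ a ∈ A, g⁻¹ * a * g ∈ A := fun a ha => by
      simpa using hK g⁻¹ (inv_mem hg) a ha
    simp only [Finset.mem_insert, Finset.mem_singleton] at hU ⊢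
    rcases hU with rfl | rfl
    · left
      ext v
      constructor
      · rintro ⟨w, hw, rfl⟩
        exact fixd_map hg' hw
      · intro hv
        refine ⟨g⁻¹ v, fixd_map (fun a ha => by simpa using hK g hg a ha) hv, ?_⟩
        exact MulAut.apply_inv_self _ g v
    · right
      ext v
      constructor
      · rintro ⟨w, hw, rfl⟩
        show gn A (g w) = 1
        rw [← gn_map (hK g hg), show gn A w = 1 from hw, map_one]
      · intro hv
        refine ⟨g⁻¹ v, ?_, MulAut.apply_inv_self _ g v⟩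
        show gn A (g⁻¹ v) = 1
        rw [← gn_map (fun a ha => hK g⁻¹ (inv_mem hg) a ha), show gn A v = 1 from hv, map_one]

theorem exists_part_hyperplanes [Finite V] {p : ℕ} [hp : Fact p.Prime]
    (hV : (Nat.card V).Coprime p) (A : Subgroup (MulAut V))
    (hexp : ∀ a ∈ A, a ^ p = 1) (hcom : ∀ a ∈ A, ∀ b ∈ A, Commute a b) (hA2 : p < Nat.card A)
    (hfix : fixd A = ⊥) (K : Subgroup (MulAut V)) (hK : ∀ g ∈ K, ∀ a ∈ A, g * a * g⁻¹ ∈ A) :
    ∃ 𝒰, IsPart (K : Set (MulAut V)) 𝒰 := by
  classical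
  haveI := Fintype.ofFinite (Subgroup (MulAut V))
  let 𝔅 : Finset (Subgroup (MulAut V)) :=
    Finset.univ.filter fun B => B ≤ A ∧ p * Nat.card B = Nat.card A ∧ fixd B ≠ ⊥
  have hmem : ∀ B, B ∈ 𝔅 ↔ B ≤ A ∧ p * Nat.card B = Nat.card A ∧ fixd B ≠ ⊥ := fun B => by
    simp [𝔅]
  have hpA : IsPGroup p A := fun a => ⟨1, by rw [pow_one]; exact Subtype.ext (hexp a a.2)⟩
  have hpcard : ∀ B : Subgroup (MulAut V), B ≤ A → ∃ k, Nat.card B = p ^ k := fun B hB =>
    IsPGroup.iff_card.1 (hpA.to_le hB)
  have hstep : ∀ (E : Subgroup (MulAut V)) (g : MulAut V), E ≤ A → g ∈ A → g ∉ E →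
      Nat.card ↥(E ⊔ Subgroup.zpowers g) = Nat.card E * p := by
    intro E g hE hg hgE
    have hg1 : g ≠ 1 := fun h => hgE (h ▸ one_mem E)
    have hn : Subgroup.zpowers g ≤ Subgroup.normalizer (E : Set (MulAut V)) :=
      Subgroup.zpowers_le.2 (Subgroup.mem_normalizer_iff.2 fun e => by
        constructor
        · intro he
          rwa [(hcom g hg e (hE he)).eq, mul_inv_cancel_right]
        · intro he
          have h := (hcom g hg _ (hE he)).eq
          rw [inv_mul_cancel_right] at h
          exact (mul_left_cancel h) ▸ he)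
    rw [CfsgLib.CFun.ZLen.card_sup_eq hn, Nat.card_zpowers, orderOf_eq_prime (hexp g hg) hg1]
    refine (Subgroup.eq_bot_iff_forall _).2 fun a ⟨haE, hag⟩ => ?_
    by_contra ha1
    have heq : Subgroup.zpowers a = Subgroup.zpowers g := Subgroup.eq_of_le_of_card_ge
      (Subgroup.zpowers_le.2 hag) (by
        rw [Nat.card_zpowers, Nat.card_zpowers, orderOf_eq_prime (hexp g hg) hg1,
          orderOf_eq_prime (hexp a (hE haE)) ha1])
    exact hgE (Subgroup.zpowers_le.2 haE (heq ▸ Subgroup.mem_zpowers g))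
  have hsup : ∀ B₁ ∈ 𝔅, ∀ B₂ ∈ 𝔅, B₁ ≠ B₂ → B₁ ⊔ B₂ = A := by
    intro B₁ h1 B₂ h2 hne
    rw [hmem] at h1 h2
    obtain ⟨g, hg2, hg1⟩ : ∃ g ∈ B₂, g ∉ B₁ := Set.not_subset.1 fun hle => hne
      (Subgroup.eq_of_le_of_card_ge hle (Nat.le_of_mul_le_mul_left
        (le_of_eq (h1.2.1.trans h2.2.1.symm)) hp.out.pos)).symm
    refine le_antisymm (sup_le h1.1 h2.1) ?_
    refine le_trans (le_of_eq ?_) (sup_le_sup_left (Subgroup.zpowers_le.2 hg2) B₁)
    symm
    refine Subgroup.eq_of_le_of_card_ge (sup_le h1.1 (Subgroup.zpowers_le.2 (h2.1 hg2))) ?_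
    rw [hstep B₁ g h1.1 (h2.1 hg2) hg1, mul_comm, h1.2.1]
  have hinter : ∀ B₁ ∈ 𝔅, ∀ B₂ ∈ 𝔅, B₁ ≠ B₂ → ∀ v ∈ fixd B₁, v ∈ fixd B₂ → v = 1 := by
    intro B₁ h1 B₂ h2 hne v hv1 hv2
    have hle : A ≤ ({ carrier := {a | a v = v}
                      one_mem' := rfl
                      mul_mem' := fun {a b} ha hb => by
                        show (a * b) v = v
                        rw [MulAut.mul_apply, show b v = v from hb, show a v = v from ha]
                      inv_mem' := fun {a} ha => by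
                        show a⁻¹ v = v
                        conv_lhs => rw [← show a v = v from ha]
                        exact MulAut.inv_apply_self _ a v } : Subgroup (MulAut V)) :=
      (hsup B₁ h1 B₂ h2 hne).ge.trans (sup_le (fun a ha => hv1 a ha) (fun a ha => hv2 a ha))
    exact Subgroup.mem_bot.1 (hfix ▸ (show v ∈ fixd A from fun a ha => hle ha))
  have hinj : Set.InjOn fixd (𝔅 : Set (Subgroup (MulAut V))) := by
    intro B₁ h1 B₂ h2 he
    by_contra hne
    exact ((hmem B₁).1 h1).2.2 ((Subgroup.eq_bot_iff_forall _).2 fun v hv =>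
      hinter B₁ h1 B₂ h2 hne v hv (he ▸ hv))
  set 𝒰 := 𝔅.image fixd with h𝒰
  have hsupU : 𝒰.sup id = ⊤ := by
    have key : ∀ E : Subgroup (MulAut V), E ≤ A → E ≠ A → fixd E ≤ 𝒰.sup id := by
      intro E
      induction E using WellFoundedGT.induction with
      | _ E ih =>
      intro hEA hne v hv
      obtain ⟨a, ha, haE⟩ : ∃ a ∈ A, a ∉ E :=
        Set.not_subset.1 fun hle => hne (le_antisymm hEA hle)
      by_cases hfull : p * Nat.card E = Nat.card A
      · by_cases hb : fixd E = ⊥
        · rw [hb, Subgroup.mem_bot] at hv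
          rw [hv]; exact one_mem _
        exact Finset.le_sup (f := id) (Finset.mem_image_of_mem fixd ((hmem E).2 ⟨hEA, hfull, hb⟩)) hv
      have hnew : ∀ g ∈ A, g ∉ E → ∀ w, (∀ e ∈ E, e w = w) → g w = w → w ∈ 𝒰.sup id := by
        intro g hg hgE w hwE hgw
        refine ih (E ⊔ Subgroup.zpowers g) (lt_of_le_of_ne le_sup_left fun h =>
          hgE (h ▸ Subgroup.mem_sup_right (Subgroup.mem_zpowers g)))
          (sup_le hEA (Subgroup.zpowers_le.2 hg)) (fun h => hfull ?_) ?_
        · refine Eq.trans ?_ (congrArg (fun S : Subgroup (MulAut V) => Nat.card S) h)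
          show p * Nat.card E = Nat.card ↥(E ⊔ Subgroup.zpowers g)
          rw [hstep E g hEA hg hgE, mul_comm]
        · intro b hb
          have : E ⊔ Subgroup.zpowers g ≤
              ({ carrier := {b | b w = w}
                 one_mem' := rfl
                 mul_mem' := fun {a b} ha hb => by
                   show (a * b) w = w
                   rw [MulAut.mul_apply, show b w = w from hb, show a w = w from ha]
                 inv_mem' := fun {a} ha => by
                   show a⁻¹ w = w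
                   conv_lhs => rw [← show a w = w from ha]
                   exact MulAut.inv_apply_self _ a w } : Subgroup (MulAut V)) :=
            sup_le (fun e he => hwE e he) (Subgroup.zpowers_le.2 hgw)
          exact this hb
      obtain ⟨z, hz, hzE⟩ : ∃ z ∈ A, z ∉ E ⊔ Subgroup.zpowers a :=
        Set.not_subset.1 fun hle => hfull (by
          refine Eq.trans ?_ (congrArg (fun S : Subgroup (MulAut V) => Nat.card S)
            (le_antisymm (sup_le hEA (Subgroup.zpowers_le.2 ha)) hle))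
          show p * Nat.card E = Nat.card ↥(E ⊔ Subgroup.zpowers a)
          rw [hstep E a hEA ha haE, mul_comm])
      have hzE' : z ∉ E := fun h => hzE (Subgroup.mem_sup_left h)
      have hid := sn_identity hp.out (hcom a ha z hz) (hexp z hz) v
      refine mem_of_pow_mem (p := p) hV ⟨1, (pow_one p).symm⟩ ?_
      rw [← mul_inv_eq_iff_eq_mul] at hid
      rw [← hid]
      have hzn : ∀ e ∈ E, e (sn p z v) = sn p z v := fun e he =>
        sn_fix_of_commute (hcom e (hEA he) z hz) (hv e he)
      refine mul_mem (mul_mem (prod_mem fun i _ => ?_) ?_) (inv_mem (prod_mem fun k _ => ?_))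
      · have hgA : a * z ^ i ∈ A := mul_mem ha (pow_mem hz i)
        refine hnew (a * z ^ i) hgA ?_ _ (fun e he =>
          sn_fix_of_commute (hcom e (hEA he) _ hgA) (hv e he)) (sn_fixed (hexp _ hgA) v)
        intro hmemE
        by_cases hi : p ∣ i
        · obtain ⟨c, rfl⟩ := hi
          rw [pow_mul, hexp z hz, one_pow, mul_one] at hmemE
          exact haE hmemE
        · have hzi : z ^ i ∈ E ⊔ Subgroup.zpowers a := by
            have := mul_mem (inv_mem (Subgroup.mem_sup_right (Subgroup.mem_zpowers a) :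
              a ∈ E ⊔ Subgroup.zpowers a)) (Subgroup.mem_sup_left hmemE :
              a * z ^ i ∈ E ⊔ Subgroup.zpowers a)
            rwa [inv_mul_cancel_left] at this
          obtain ⟨m, hm⟩ := exists_pow_eq_self_of_coprime (x := z) (n := i)
            ((Nat.Coprime.coprime_dvd_right (orderOf_dvd_of_pow_eq_one (hexp z hz))
              ((hp.out.coprime_iff_not_dvd.2 hi).symm)))
          exact hzE (hm ▸ pow_mem hzi m)
      · exact hnew z hz hzE' _ hzn (sn_fixed (hexp z hz) v)
      · refine hnew z hz hzE' _ (fun e he => ?_) ?_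
        · rw [← MulAut.mul_apply, ((hcom e (hEA he) a ha).pow_right k).eq, MulAut.mul_apply,
            hzn e he]
        · rw [← MulAut.mul_apply, ((hcom z hz a ha).pow_right k).eq, MulAut.mul_apply,
            sn_fixed (hexp z hz) v]
    rw [eq_top_iff]
    refine le_trans (fun v _ => ?_) (key ⊥ bot_le fun h => ?_)
    · intro b hb
      rw [Subgroup.mem_bot.1 hb]; rfl
    · rw [← h, Subgroup.card_bot] at hA2
      have := hp.out.one_lt
      omega
  have hfaith : ∀ B : Subgroup (MulAut V), fixd B = ⊤ → B = ⊥ := fun B h =>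
    (Subgroup.eq_bot_iff_forall _).2 fun b hb => MulEquiv.ext fun v =>
      (h ▸ Subgroup.mem_top v : v ∈ fixd B) b hb
  refine ⟨𝒰, ⟨?_, ?_, hsupU, ?_, ?_⟩⟩
  · intro U hU
    obtain ⟨B, hB, rfl⟩ := Finset.mem_image.1 hU
    exact ((hmem B).1 hB).2.2
  · intro f hf hprod W hW
    obtain ⟨B, hB, rfl⟩ := Finset.mem_image.1 hW
    obtain ⟨hBA, hBc, -⟩ := (hmem B).1 hB
    have h1 := congrArg (MonoidHom.mk' (gn B) (gn_mul B)) hprod
    rw [map_prod, map_one] at h1
    simp only [MonoidHom.mk'_apply] at h1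
    rw [Finset.prod_eq_single (fixd B) (fun U hU hUB => ?_) (fun h => absurd hW h),
      gn_of_fix (hf _ hW)] at h1
    · exact eq_one_of_pow hV (hpcard B hBA) h1
    · obtain ⟨B', hB', rfl⟩ := Finset.mem_image.1 hU
      obtain ⟨hB'A, -, -⟩ := (hmem B').1 hB'
      refine hinter B hB B' hB' (fun h => hUB (h ▸ rfl)) _ (gn_fixed B _) fun b hb => ?_
      rw [gn_map (fun a ha => by rw [(hcom b (hB'A hb) a (hBA ha)).eq, mul_inv_cancel_right]; exact ha),
        hf _ hU b hb]
  · by_contra hlt
    have hc : 𝒰.card ≤ 1 := by omega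
    obtain ⟨U, hU⟩ : 𝒰.Nonempty := by
      rw [Finset.nonempty_iff_ne_empty]
      intro h0
      rw [h0, Finset.sup_empty] at hsupU
      haveI : Subsingleton V := ⟨fun a b => by
        have ha : a ∈ (⊥ : Subgroup V) := hsupU ▸ Subgroup.mem_top a
        have hb : b ∈ (⊥ : Subgroup V) := hsupU ▸ Subgroup.mem_top b
        rw [Subgroup.mem_bot.1 ha, Subgroup.mem_bot.1 hb]⟩
      have : A = ⊥ := (Subgroup.eq_bot_iff_forall _).2 fun a _ =>
        MulEquiv.ext fun v => Subsingleton.elim _ _
      rw [this, Subgroup.card_bot] at hA2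
      have := hp.out.one_lt
      omega
    have h𝒰 : 𝒰 = {U} := Finset.eq_singleton_iff_unique_mem.2
      ⟨hU, fun W hW => Finset.card_le_one.1 hc W hW U hU⟩
    rw [h𝒰, Finset.sup_singleton, id] at hsupU
    obtain ⟨B, hB, rfl⟩ := Finset.mem_image.1 hU
    obtain ⟨-, hBc, -⟩ := (hmem B).1 hB
    rw [hfaith B hsupU, Subgroup.card_bot, mul_one] at hBc
    omega
  · intro g hg U hU
    obtain ⟨B, hB, rfl⟩ := Finset.mem_image.1 hU
    obtain ⟨hBA, hBc, hBf⟩ := (hmem B).1 hB
    have hmap : (fixd B).map g.toMonoidHom = fixd (B.map (MulAut.conj g).toMonoidHom) := by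
      ext v
      constructor
      · rintro ⟨w, hw, rfl⟩ a ⟨b, hb, rfl⟩
        show (g * b * g⁻¹) (g w) = g w
        rw [MulAut.mul_apply, MulAut.mul_apply, MulAut.inv_apply_self, hw b hb]
      · intro hv
        refine ⟨g⁻¹ v, fun b hb => ?_, MulAut.apply_inv_self _ g v⟩
        apply g.injective
        rw [MulAut.apply_inv_self]
        exact hv _ ⟨b, hb, rfl⟩
    rw [hmap]
    refine Finset.mem_image_of_mem fixd ((hmem _).2 ⟨?_, ?_, ?_⟩)
    · rintro _ ⟨b, hb, rfl⟩
      exact hK g hg b (hBA hb)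
    · rw [Subgroup.card_map_of_injective (MulAut.conj g).injective, hBc]
    · intro h0
      rw [← hmap] at h0
      exact hBf ((Subgroup.map_eq_bot_iff_of_injective _ g.injective).1 h0)

end CfsgLib.FreeVec
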