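import Mathlib
import Cfsg.Agent.Lib.PGroup.FreeVector.Decomp
import Cfsg.Agent.Lib.PGroup.SymplecticPairs
import Cfsg.Agent.Lib.PGroup.OmegaCentral
import Cfsg.Agent.Lib.Coprime.UniqueOrderP

/-!
# The primitive case

An odd `p`-group of symplectic type acting on a coprime module with fixed-point-free centre has a
vector fixed by no element of order `p`.
-/

set_option autoImplicit false
set_option linter.style.haveILetI false

namespace CfsgLib.FreeVec

open Subgroup
open scoped commutatorElement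

variable {V : Type*} [CommGroup V] [Finite V] {P : Type*} [Group P] [Finite P]
variable {p : ℕ} [hp : Fact p.Prime]

omit [Finite V] [Finite P] hp in
theorem sn_mem {ρ : MulAut V} {U : Subgroup V} (hU : ∀ u ∈ U, ρ u ∈ U) (q : ℕ) {v : V}
    (hv : v ∈ U) : sn q ρ v ∈ U := by
  refine Subgroup.prod_mem U fun k hk => ?_
  clear hk
  induction k with
  | zero => rw [pow_zero]; exact hv
  | succ k ih => rw [pow_succ', MulAut.mul_apply]; exact hU _ ih

omit [Finite V] [Finite P] in
theorem fix_of_pow_fix {g : MulAut V} (hg : g ^ p = 1) {d : ℕ} (hd : ¬ p ∣ d) {v : V}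
    (h : (g ^ d) v = v) : g v = v := by
  obtain ⟨m, hm⟩ := exists_pow_eq_self_of_coprime (x := g) (n := d)
    (Nat.Coprime.coprime_dvd_right (orderOf_dvd_of_pow_eq_one hg)
      ((hp.out.coprime_iff_not_dvd.2 hd).symm))
  conv_lhs => rw [← hm]
  exact mem_fix1_of_fix h m

variable (ρ : P →* MulAut V) {z : P}

omit [Finite P] in
/-- The translates of a fixed space are independent. -/
theorem card_pow_le (hV : (Nat.card V).Coprime p) (hz : z ^ p = 1) (hzc : ∀ g, g * z = z * g)
    (hfree : ∀ v, ρ z v = v → v = 1) {W : Subgroup P} {x y : P} (hy : y ∈ W) (hxp : x ^ p = 1)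
    (hxy : ⁅x, y⁆ = z) {U : Subgroup V} (hU : ∀ w ∈ W, ∀ u ∈ U, ρ w u ∈ U) :
    Nat.card ↥(U ⊓ fix1 (ρ x)) ^ p ≤ Nat.card U := by
  classical
  have hconj : ∀ j : ℕ, y⁻¹ ^ j * x * (y⁻¹ ^ j)⁻¹ = x * z ^ j := by
    intro j
    induction j with
    | zero => simp
    | succ j ih =>
      have h1 : y⁻¹ * x * y = x * z := by
        have hyxy : x * y = z * (y * x) := by rw [← hxy, commutatorElement_def]; group
        calc y⁻¹ * x * y = y⁻¹ * (x * y) := by group
          _ = y⁻¹ * ((y * x) * z) := by rw [hyxy, hzc (y * x)]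
          _ = x * z := by group
      calc y⁻¹ ^ (j + 1) * x * (y⁻¹ ^ (j + 1))⁻¹
          = y⁻¹ * (y⁻¹ ^ j * x * (y⁻¹ ^ j)⁻¹) * y := by rw [pow_succ']; group
        _ = y⁻¹ * x * (z ^ j * y) := by rw [ih]; group
        _ = (y⁻¹ * x * y) * z ^ j := by
            rw [← ((show Commute y z from hzc y).pow_right j).eq]; group
        _ = x * z ^ (j + 1) := by rw [h1, pow_succ']; group
  set A := U ⊓ fix1 (ρ x) with hA
  let w : (Fin p → A) → Fin p → V := fun f j => ρ (y⁻¹ ^ (j : ℕ)) (f j : V)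
  have hwU : ∀ f j, w f j ∈ U := fun f j =>
    hU _ (pow_mem (inv_mem hy) _) _ (f j).2.1
  have hwfix : ∀ (f : Fin p → A) (j : Fin p), ρ (x * z ^ (j : ℕ)) (w f j) = w f j := fun f j => by
    have hv : ρ x (f j : V) = f j := (f j).2.2
    show ρ (x * z ^ (j : ℕ)) (ρ (y⁻¹ ^ (j : ℕ)) (f j : V)) = _
    rw [← MulAut.mul_apply, ← map_mul, ← hconj, inv_mul_cancel_right, map_mul, MulAut.mul_apply,
      hv]
  let φ : (Fin p → A) → U := fun f => ⟨∏ j, w f j, Subgroup.prod_mem U fun j _ => hwU f j⟩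
  have hzp : ρ z ^ p = 1 := by rw [← map_pow, hz, map_one]
  have hφ : Function.Injective φ := by
    intro f f' hff
    funext j
    have hmul : ∀ a b : V, sn p (ρ (x * z ^ (j : ℕ))) (a * b) =
        sn p (ρ (x * z ^ (j : ℕ))) a * sn p (ρ (x * z ^ (j : ℕ))) b := fun a b => by
      simp [sn, map_mul, Finset.prod_mul_distrib]
    let Φ := MonoidHom.mk' (sn p (ρ (x * z ^ (j : ℕ)))) hmul
    have hkill : ∀ g : Fin p → A, ∀ l, l ≠ j → Φ (w g l) = 1 := by
      intro g l hl
      show sn p (ρ (x * z ^ (j : ℕ))) (w g l) = 1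
      set d := p + (j : ℕ) - (l : ℕ) with hd
      have hdl : (l : ℕ) + d = (j : ℕ) + p := by have := l.2; omega
      have hsplit : x * z ^ (j : ℕ) = z ^ d * (x * z ^ (l : ℕ)) := by
        rw [← ((show Commute (x * z ^ (l : ℕ)) z from hzc _).pow_right d).eq, mul_assoc, ← pow_add,
          hdl, pow_add, hz, mul_one]
      have hpd : ¬ p ∣ d := by
        intro hdvd
        have := l.2; have := j.2
        obtain ⟨c, hc⟩ := hdvd
        rcases c with _ | _ | c
        · omega
        · exact hl (Fin.ext (by omega))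
        · rw [mul_add, mul_add, mul_one] at hc; omega
      have he : sn p (ρ (x * z ^ (j : ℕ))) (w g l) = sn p (ρ z ^ d) (w g l) := by
        unfold sn
        refine Finset.prod_congr rfl fun k _ => ?_
        have hc : Commute (ρ z ^ d) (ρ (x * z ^ (l : ℕ))) := by
          rw [← map_pow]
          exact ((show Commute (x * z ^ (l : ℕ)) z from hzc _).pow_right d).symm.map ρ
        rw [hsplit, map_mul, map_pow ρ z d, hc.mul_pow, MulAut.mul_apply,
          mem_fix1_of_fix (hwfix g l)]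
      rw [he]
      refine hfree _ (fix_of_pow_fix hzp hpd (sn_fixed ?_ _))
      rw [← pow_mul, mul_comm, pow_mul, hzp, one_pow]
    have h1 : Φ (φ f : V) = Φ (φ f' : V) := by rw [hff]
    have h2 : ∀ g : Fin p → A, Φ (φ g : V) = w g j ^ p := fun g => by
      show Φ (∏ l, w g l) = _
      rw [map_prod, Finset.prod_eq_single j (fun l _ hl => hkill g l hl) (by simp)]
      exact sn_of_fix (hwfix g j)
    rw [h2, h2] at h1
    have h3 : w f j = w f' j := by
      rw [← mul_inv_eq_one]
      refine eq_one_of_pow hV ⟨1, (pow_one p).symm⟩ ?_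
      rw [mul_pow, inv_pow, h1, mul_inv_cancel]
    exact Subtype.ext ((ρ (y⁻¹ ^ (j : ℕ))).injective h3)
  have := Nat.card_le_card_of_injective φ hφ
  rwa [Nat.card_fun, Nat.card_fin] at this

omit [Finite V] in
theorem exists_fix_ne_bot (hz : z ^ p = 1) (hzc : ∀ g, g * z = z * g)
    (hfree : ∀ v, ρ z v = v → v = 1) (hV : (Nat.card V).Coprime p) [Finite V] {x : P}
    (hxp : x ^ p = 1) {U : Subgroup V} (hU0 : U ≠ ⊥) (hUx : ∀ u ∈ U, ρ x u ∈ U)
    (hUz : ∀ u ∈ U, ρ z u ∈ U) : ∃ i : ℕ, U ⊓ fix1 (ρ (x * z ^ i)) ≠ ⊥ := by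
  by_contra! hall
  refine hU0 ((Subgroup.eq_bot_iff_forall _).2 fun v hv => ?_)
  have hc : Commute (ρ x) (ρ z) := (show Commute x z from hzc x).map ρ
  have hid := sn_identity hp.out hc (by rw [← map_pow, hz, map_one]) v
  have hzv : sn p (ρ z) v = 1 := hfree _ (sn_fixed (by rw [← map_pow, hz, map_one]) v)
  have hone : ∀ i ∈ Finset.range p, sn p (ρ x * ρ z ^ i) v = 1 := fun i _ => by
    rw [← map_pow, ← map_mul]
    refine Subgroup.mem_bot.1 (hall i ▸ ?_)
    refine Subgroup.mem_inf.2 ⟨sn_mem (fun u hu => ?_) p hv, sn_fixed ?_ v⟩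
    · have hzi : ∀ k, ρ (z ^ k) u ∈ U := by
        intro k
        induction k with
        | zero => simpa using hu
        | succ k ih => rw [pow_succ', map_mul, MulAut.mul_apply]; exact hUz _ ih
      rw [map_mul, MulAut.mul_apply]
      exact hUx _ (hzi i)
    · rw [← map_pow, ((show Commute x z from hzc x).pow_right i).mul_pow, hxp, ← pow_mul, mul_comm,
        pow_mul, hz, one_pow, one_mul, map_one]
  rw [Finset.prod_eq_one hone, hzv, one_mul] at hid
  simp only [map_one, Finset.prod_const_one, mul_one] at hid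
  exact eq_one_of_pow hV ⟨1, (pow_one p).symm⟩ hid.symm

theorem card_lower (hV : (Nat.card V).Coprime p) (hfree : ∀ v, ρ z v = v → v = 1) :
    ∀ W : Subgroup P, SympPairs.Small p z W → (∀ w ∈ W, w ^ p = 1) →
      (∀ c ∈ W ⊓ centralizer (W : Set P), c ∈ zpowers z) →
      ∀ U : Subgroup V, U ≠ ⊥ → (∀ w ∈ W, ∀ u ∈ U, ρ w u ∈ U) →
        ∃ m, Nat.card W ≤ p ^ (2 * m + 1) ∧ (p + 1) ^ p ^ m ≤ Nat.card U := by
  intro W
  induction W using WellFoundedLT.induction with
  | ind W ih =>
  intro h hexp hcen U hU0 hU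
  by_cases hna : ∃ a ∈ W, ∃ b ∈ W, ⁅a, b⁆ ≠ 1
  · obtain ⟨x, hx, y, hy, hxy⟩ := h.exists_pair hna
    obtain ⟨i, hi⟩ := exists_fix_ne_bot ρ h.pow_z h.central hfree hV (hexp x hx) hU0
      (hU x hx) (hU z h.mem)
    set x' := x * z ^ i with hx'
    have hx'W : x' ∈ W := mul_mem hx (pow_mem h.mem i)
    have hxy' : ⁅x', y⁆ = z := by
      rw [hx', h.mul_left hx (pow_mem h.mem i) hy, hxy,
        commutatorElement_eq_one_iff_mul_comm.2 (h.central_of_mem (pow_mem (mem_zpowers z) i) y).symm,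
        mul_one]
    obtain ⟨hV', hlt⟩ := h.pair_lt hx'W hy hxy'
    set W' := W ⊓ centralizer {x'} ⊓ centralizer {y} with hW'
    obtain ⟨m, hm1, hm2⟩ := ih W' hlt hV' (fun w hw => hexp w (hlt.le hw))
      (fun c hc => hcen c ((h.center_pair hx'W hy hxy').le hc)) _ hi (fun w hw u hu => by
        obtain ⟨hw0, -⟩ := Subgroup.mem_inf.1 hw
        obtain ⟨hwW, hwx⟩ := Subgroup.mem_inf.1 hw0
        refine Subgroup.mem_inf.2 ⟨hU w hwW u hu.1, ?_⟩
        show ρ x' (ρ w u) = ρ w u
        rw [← MulAut.mul_apply, ← map_mul, (mem_centralizer_singleton_iff.1 hwx).symm, map_mul,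
          MulAut.mul_apply, show ρ x' u = u from hu.2])
    refine ⟨m + 1, ?_, ?_⟩
    · have hsurj : Function.Surjective (fun t : Fin p × Fin p × W' =>
          (⟨x' ^ (t.1 : ℕ) * y ^ (t.2.1 : ℕ) * (t.2.2 : P), mul_mem (mul_mem (pow_mem hx'W _)
            (pow_mem hy _)) (hlt.le t.2.2.2)⟩ : W)) := by
        rintro ⟨w, hw⟩
        obtain ⟨a, b, w', hw', rfl⟩ := h.decomp hx'W hy hxy' hw
        have hpp : (0 : ℤ) < p := by exact_mod_cast hp.out.pos
        refine ⟨(⟨(a % p).toNat, by have := Int.emod_lt_of_pos a hpp; omega⟩,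
          ⟨(b % p).toNat, by have := Int.emod_lt_of_pos b hpp; omega⟩, ⟨w', hw'⟩), ?_⟩
        have hmod : ∀ g : P, g ^ p = 1 → ∀ c : ℤ, g ^ (c % p).toNat = g ^ c := fun g hg c => by
          rw [← zpow_natCast, Int.toNat_of_nonneg (Int.emod_nonneg _ hpp.ne')]
          conv_rhs => rw [← Int.emod_add_mul_ediv c p, zpow_add, zpow_mul, zpow_natCast, hg, one_zpow,
            mul_one]
        exact Subtype.ext (by simp only [hmod x' (hexp _ hx'W), hmod y (hexp _ hy)])
      refine (Nat.card_le_card_of_surjective _ hsurj).trans ?_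
      rw [Nat.card_prod, Nat.card_prod, Nat.card_fin]
      calc p * (p * Nat.card W') ≤ p * (p * p ^ (2 * m + 1)) := by gcongr
        _ = p ^ (2 * (m + 1) + 1) := by ring
    · calc (p + 1) ^ p ^ (m + 1) = ((p + 1) ^ p ^ m) ^ p := by rw [← pow_mul, pow_succ]
        _ ≤ Nat.card ↥(U ⊓ fix1 (ρ x')) ^ p := Nat.pow_le_pow_left hm2 p
        _ ≤ _ := card_pow_le ρ hV h.pow_z h.central hfree hy (hexp _ hx'W) hxy' hU
  · push Not at hna
    refine ⟨0, ?_, ?_⟩
    · have hle : W ≤ zpowers z := fun c hc => hcen c (Subgroup.mem_inf.2 ⟨hc,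
        mem_centralizer_iff.2 fun d hd => commutatorElement_eq_one_iff_mul_comm.1 (hna d hd c hc)⟩)
      refine (Subgroup.card_le_of_le hle).trans ?_
      rw [Nat.card_zpowers, pow_succ, mul_zero, pow_zero, one_mul]
      exact Nat.le_of_dvd hp.out.pos (orderOf_dvd_of_pow_eq_one h.pow_z)
    · rw [pow_zero, pow_one]
      obtain ⟨u, hu, hu1⟩ : ∃ u ∈ U, u ≠ 1 := by
        by_contra! hall
        exact hU0 ((Subgroup.eq_bot_iff_forall _).2 hall)
      have hzp : ρ z ^ p = 1 := by rw [← map_pow, h.pow_z, map_one]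
      let g : Option (Fin p) → U := fun o => o.elim 1 fun k =>
        ⟨ρ (z ^ (k : ℕ)) u, hU _ (pow_mem h.mem _) u hu⟩
      have hkl : ∀ k l : Fin p, (k : ℕ) < l → ρ (z ^ (k : ℕ)) u ≠ ρ (z ^ (l : ℕ)) u := by
        intro k l hkl e
        rw [show (l : ℕ) = (k : ℕ) + ((l : ℕ) - k) by omega, pow_add, map_mul,
          MulAut.mul_apply] at e
        have e' := ((ρ (z ^ (k : ℕ))).injective e).symm
        rw [map_pow] at e'
        exact hu1 (hfree u (fix_of_pow_fix hzp (Nat.not_dvd_of_pos_of_lt (by omega)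
          (by have := l.2; omega)) e'))
      have hg : Function.Injective g := by
        rintro (_ | k) (_ | l) e
        · rfl
        · exact absurd ((map_eq_one_iff _ (ρ _).injective).1 (congrArg Subtype.val e).symm) hu1
        · exact absurd ((map_eq_one_iff _ (ρ _).injective).1 (congrArg Subtype.val e)) hu1
        · rcases lt_trichotomy (k : ℕ) l with h1 | h1 | h1
          · exact absurd (congrArg Subtype.val e) (hkl k l h1)
          · rw [Fin.ext h1]
          · exact absurd (congrArg Subtype.val e).symm (hkl l k h1)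
      have := Nat.card_le_card_of_injective g hg
      rwa [Finite.card_option, Nat.card_fin] at this

theorem numeric {p m : ℕ} (hp : 3 ≤ p) (hm : 1 ≤ m) :
    p ^ (2 * m + 1) < (p - 1) * ((p + 1) ^ p ^ (m - 1)) ^ (p - 1) := by
  obtain ⟨j, rfl⟩ : ∃ j, m = j + 1 := ⟨m - 1, by omega⟩
  rw [Nat.add_sub_cancel, ← pow_mul]
  by_cases h3 : p = 3 ∧ j = 0
  · obtain ⟨rfl, rfl⟩ := h3
    norm_num
  have hexp : 2 * (j + 1) + 1 ≤ p ^ j * (p - 1) := by
    rcases Nat.eq_zero_or_pos j with hj | hj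
    · subst hj
      simp only [pow_zero, one_mul, true_and, and_true] at h3 ⊢
      omega
    · have h1 : ∀ i, 2 * (i + 2) + 1 ≤ 3 ^ (i + 1) * 2 := by
        intro i
        induction i with
        | zero => norm_num
        | succ i ih => rw [pow_succ]; nlinarith
      obtain ⟨i, rfl⟩ : ∃ i, j = i + 1 := ⟨j - 1, by omega⟩
      calc 2 * (i + 1 + 1) + 1 ≤ 3 ^ (i + 1) * 2 := h1 i
        _ ≤ p ^ (i + 1) * (p - 1) := Nat.mul_le_mul (Nat.pow_le_pow_left hp _) (by omega)
  calc p ^ (2 * (j + 1) + 1) < (p + 1) ^ (2 * (j + 1) + 1) :=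
        Nat.pow_lt_pow_left (by omega) (by omega)
    _ ≤ (p + 1) ^ (p ^ j * (p - 1)) := Nat.pow_le_pow_right (by omega) hexp
    _ ≤ (p - 1) * _ := Nat.le_mul_of_pos_left _ (by omega)

/-- A vector fixed by no nontrivial element of `W`. -/
theorem exists_free (hp2 : p ≠ 2) (hV : (Nat.card V).Coprime p) [Nontrivial V]
    (hfree : ∀ v, ρ z v = v → v = 1) {W : Subgroup P} (h : SympPairs.Small p z W)
    (hexp : ∀ w ∈ W, w ^ p = 1) (hcen : ∀ c ∈ W ⊓ centralizer (W : Set P), c ∈ zpowers z) :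
    ∃ v : V, ∀ w ∈ W, w ≠ 1 → ρ w v ≠ v := by
  classical
  have hzfree : ∀ w ∈ zpowers z, w ≠ 1 → ∀ v, ρ w v = v → v = 1 := by
    intro w hw hw1 v hv
    obtain ⟨k, rfl⟩ := mem_powers_iff_mem_zpowers.2 hw
    refine hfree v (fix_of_pow_fix (by rw [← map_pow, h.pow_z, map_one]) (fun hd => ?_)
      (by rw [← map_pow]; exact hv))
    obtain ⟨c, rfl⟩ := hd
    refine hw1 ?_
    show z ^ (p * c) = 1
    rw [pow_mul, h.pow_z, one_pow]
  obtain ⟨m, hm1, hm2⟩ := card_lower ρ hV hfree W h hexp hcen ⊤ top_ne_bot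
    (fun _ _ _ _ => Subgroup.mem_top _)
  rw [Subgroup.card_top] at hm2
  rcases Nat.eq_zero_or_pos m with rfl | hm
  · obtain ⟨v, hv⟩ := exists_ne (1 : V)
    have hW : W = zpowers z := by
      refine (Subgroup.eq_of_le_of_card_ge (zpowers_le.2 h.mem) ?_).symm
      rw [Nat.card_zpowers, orderOf_eq_prime h.pow_z h.ne_one]
      simpa using hm1
    exact ⟨v, fun w hw hw1 e => hv (hzfree w (hW ▸ hw) hw1 v e)⟩
  by_contra! hbad
  haveI := Fintype.ofFinite V
  haveI := Fintype.ofFinite P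
  have hp3 : 3 ≤ p := by have := hp.out.two_le; omega
  set N := Nat.card V with hN
  set q := (p + 1) ^ p ^ (m - 1) with hq
  have hqN : q ^ p ≤ N := by
    rw [hq, ← pow_mul, ← pow_succ, Nat.sub_add_cancel hm]; exact hm2
  have hN1 : 1 ≤ N := Nat.card_pos
  have hlepow : ∀ c : ℕ, c ≤ c ^ p := fun c => Nat.le_self_pow hp.out.ne_zero c
  set c := Nat.findGreatest (fun c => c ^ p ≤ N) N with hc
  have hcN : c ^ p ≤ N := Nat.findGreatest_spec (P := fun c => c ^ p ≤ N) hN1 (by simpa using hN1)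
  have hcq : q ≤ c := Nat.le_findGreatest ((hlepow q).trans hqN) hqN
  have hq2 : 2 ≤ q := le_trans (by omega) (Nat.le_self_pow (pow_ne_zero _ hp.out.ne_zero) (p + 1))
  set R := (Finset.univ.filter fun w : P => w ∈ W).erase 1 with hR
  set X := (Finset.univ : Finset V).erase 1 with hX
  have hfix : ∀ w ∈ R, (X.filter fun v => ρ w v = v).card + 1 ≤ c := by
    intro w hw
    obtain ⟨hw1, hwW⟩ := Finset.mem_erase.1 hw
    have hwW : w ∈ W := (Finset.mem_filter.1 hwW).2
    have hsub : (X.filter fun v => ρ w v = v).card + 1 ≤ Nat.card ↥(fix1 (ρ w)) := by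
      rw [Nat.card_eq_fintype_card, Fintype.card_subtype, ← Finset.card_insert_of_notMem
        (a := (1 : V)) (by simp [hX])]
      refine Finset.card_le_card fun v hv => ?_
      simp only [Finset.mem_insert, Finset.mem_filter] at hv ⊢
      refine ⟨Finset.mem_univ _, ?_⟩
      rcases hv with rfl | hv
      · exact map_one _
      · exact hv.2
    refine hsub.trans ?_
    by_cases hwz : w ∈ zpowers z
    · have h0 : fix1 (ρ w) = ⊥ :=
        (Subgroup.eq_bot_iff_forall _).2 fun v hv => hzfree w hwz hw1 v hv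
      rw [h0, Subgroup.card_bot]; omega
    · have hncen : ∃ b ∈ W, ⁅w, b⁆ ≠ 1 := by
        by_contra! hall
        exact hwz (hcen w (Subgroup.mem_inf.2 ⟨hwW, mem_centralizer_iff.2 fun d hd =>
          (commutatorElement_eq_one_iff_mul_comm.1 (hall d hd)).symm⟩))
      obtain ⟨b, hb, hwb⟩ := hncen
      obtain ⟨i, hi⟩ := mem_zpowers_iff.1 (h.comm w hwW b hb)
      have hd : ¬ (p : ℤ) ∣ i := fun hd => hwb (by
        rw [← hi, CfsgLib.TwoConjugate.zpow_eq_one_of_dvd h.pow_z hd])
      obtain ⟨u, v, huv⟩ :=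
        (Nat.prime_iff_prime_int.1 (Fact.out : p.Prime)).coprime_iff_not_dvd.2 hd
      have hpair : ⁅w, b ^ v⁆ = z := by
        rw [h.zpow_right hwW hb, ← hi, ← zpow_mul]
        conv_rhs => rw [← zpow_one z, ← huv, zpow_add, mul_comm u, zpow_mul, zpow_natCast, h.pow_z,
          one_zpow, one_mul]
        rw [mul_comm]
      have hle := card_pow_le ρ hV h.pow_z h.central hfree (W := W) (zpow_mem hb v) (hexp w hwW)
        hpair (U := ⊤) (fun _ _ _ _ => Subgroup.mem_top _)
      rw [top_inf_eq, Subgroup.card_top] at hle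
      exact Nat.le_findGreatest ((hlepow _).trans hle) hle
  have hmany : ∀ v ∈ X, p - 1 ≤ (R.filter fun w => ρ w v = v).card := by
    intro v _
    obtain ⟨w, hw, hw1, hwv⟩ := hbad v
    have hinj : Set.InjOn (fun k => w ^ k) (Finset.Ico 1 p : Finset ℕ) := by
      intro a ha b hb hab
      simp only [Finset.coe_Ico, Set.mem_Ico] at ha hb
      have := pow_injOn_Iio_orderOf (x := w)
      rw [orderOf_eq_prime (hexp w hw) hw1] at this
      exact this (Set.mem_Iio.2 ha.2) (Set.mem_Iio.2 hb.2) hab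
    calc p - 1 = ((Finset.Ico 1 p).image fun k => w ^ k).card := by
          rw [Finset.card_image_of_injOn hinj, Nat.card_Ico]
      _ ≤ _ := Finset.card_le_card fun g hg => by
          obtain ⟨k, hk, rfl⟩ := Finset.mem_image.1 hg
          have hk' := Finset.mem_Ico.1 hk
          simp only [hR, Finset.mem_filter, Finset.mem_erase, Finset.mem_univ, true_and]
          refine ⟨⟨fun e => hw1 ?_, pow_mem hw k⟩, ?_⟩
          · rw [← orderOf_eq_one_iff]
            exact Nat.eq_one_of_dvd_coprimes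
              (hp.out.coprime_iff_not_dvd.2 (Nat.not_dvd_of_pos_of_lt (by omega) hk'.2))
              (orderOf_dvd_of_pow_eq_one (hexp w hw)) (orderOf_dvd_of_pow_eq_one e)
          · rw [map_pow]; exact mem_fix1_of_fix hwv k
  have hcount : (p - 1) * X.card ≤ R.card * (c - 1) := by
    calc (p - 1) * X.card ≤ ∑ v ∈ X, (R.filter fun w => ρ w v = v).card := by
          rw [mul_comm, ← smul_eq_mul, ← Finset.sum_const]; exact Finset.sum_le_sum hmany
      _ = ∑ w ∈ R, (X.filter fun v => ρ w v = v).card := by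
          simp only [Finset.card_filter]; exact Finset.sum_comm
      _ ≤ ∑ w ∈ R, (c - 1) := Finset.sum_le_sum fun w hw => by have := hfix w hw; omega
      _ = _ := by rw [Finset.sum_const, smul_eq_mul]
  have hXc : X.card = N - 1 := by
    rw [hX, Finset.card_erase_of_mem (Finset.mem_univ _), Finset.card_univ,
      ← Nat.card_eq_fintype_card]
  have hRc : R.card ≤ p ^ (2 * m + 1) := by
    refine le_trans ?_ hm1
    rw [Nat.card_eq_fintype_card, Fintype.card_subtype, hR]
    exact Finset.card_erase_le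
  rw [hXc] at hcount
  have hnum := numeric hp3 hm
  rw [← hq] at hnum
  obtain ⟨e, he⟩ : ∃ e, p = e + 1 := ⟨p - 1, by omega⟩
  have h1 : (c - 1) * c ^ (p - 1) ≤ N - 1 := by
    have hce : c ^ p = c * c ^ (p - 1) := by rw [← pow_succ', Nat.sub_add_cancel (by omega)]
    have : 1 ≤ c ^ (p - 1) := Nat.one_le_pow _ _ (by omega)
    rw [Nat.sub_mul, one_mul]
    omega
  have h2 : (c - 1) * ((p - 1) * c ^ (p - 1)) ≤ (c - 1) * p ^ (2 * m + 1) :=
    calc (c - 1) * ((p - 1) * c ^ (p - 1)) = (p - 1) * ((c - 1) * c ^ (p - 1)) := by ring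
      _ ≤ (p - 1) * (N - 1) := Nat.mul_le_mul_left _ h1
      _ ≤ R.card * (c - 1) := hcount
      _ ≤ p ^ (2 * m + 1) * (c - 1) := Nat.mul_le_mul_right _ hRc
      _ = _ := mul_comm _ _
  have h3 := Nat.le_of_mul_le_mul_left h2 (by omega)
  have h4 : q ^ (p - 1) ≤ c ^ (p - 1) := Nat.pow_le_pow_left hcq _
  have := Nat.mul_le_mul_left (p - 1) h4
  omega

omit [Finite V] hp in
theorem comm_pow_eq_one {a b : P} (ha : a ^ p = 1) (hc : ∀ g, g * ⁅b, a⁆ = ⁅b, a⁆ * g) :
    ⁅b, a⁆ ^ p = 1 := by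
  have e : ⁅b, a⁆ * a = b * a * b⁻¹ := by simp only [commutatorElement_def]; group
  have h1 : (⁅b, a⁆ * a) ^ p = 1 := by rw [e, conj_pow, ha, mul_one, mul_inv_cancel]
  rwa [(show Commute ⁅b, a⁆ a from (hc a).symm).mul_pow, ha, mul_one] at h1

omit [Finite V] in
theorem sq_not_dvd_geom {k : ℕ} {S : ℕ → ℕ} (hp2 : p ≠ 2) (h0 : S 0 = 0)
    (hs : ∀ n, S (n + 1) = 1 + k * S n) (hk : (k : ZMod p) = 1) : ¬ p ^ 2 ∣ S p := by
  obtain ⟨a, ha⟩ : ∃ a : ℤ, (k : ℤ) = 1 + p * a := by
    rw [← Int.cast_natCast (R := ZMod p) k, ← Int.cast_one (R := ZMod p),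
      ZMod.intCast_eq_intCast_iff_dvd_sub] at hk
    obtain ⟨a, ha⟩ := hk
    exact ⟨-a, by rw [mul_neg, ← ha]; ring⟩
  have key : ∀ n, (p : ℤ) ^ 2 ∣ (S n : ℤ) - (n + p * a * (n.choose 2 : ℕ)) := by
    intro n
    induction n with
    | zero => simp [h0]
    | succ n ih =>
      obtain ⟨t, ht⟩ := ih
      refine ⟨k * t + a ^ 2 * (n.choose 2 : ℕ), ?_⟩
      rw [hs, Nat.choose_succ_succ' n 1, Nat.choose_one_right]
      push_cast
      rw [ha]
      linear_combination ((1 : ℤ) + p * a) * ht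
  intro hdvd
  have h1 := key p
  obtain ⟨c, hc⟩ := hp.out.dvd_choose_self two_ne_zero (by have := hp.out.two_le; omega)
  rw [hc] at h1
  push_cast at h1
  have h2 : (p : ℤ) ^ 2 ∣ (p : ℤ) := by
    have hS : (p : ℤ) ^ 2 ∣ (S p : ℤ) := by exact_mod_cast hdvd
    have h3 := dvd_sub hS h1
    rw [sub_sub_cancel] at h3
    have h4 : (p : ℤ) ^ 2 ∣ (p : ℤ) * a * (p * c) := ⟨a * c, by ring⟩
    exact (dvd_add_left h4).1 h3
  have h5 : p ^ 2 ∣ p := by exact_mod_cast h2
  have := Nat.le_of_dvd hp.out.pos h5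
  have := hp.out.two_le
  nlinarith

/-- A vector fixed by no element of order `p`. -/
theorem exists_free_of_charCyclic (hp2 : p ≠ 2) (hP : IsPGroup p P) (hV : (Nat.card V).Coprime p)
    (hρ : Function.Injective ρ)
    (hA : ∀ A : Subgroup P, A.Characteristic → (∀ a ∈ A, a ^ p = 1) →
      (∀ a ∈ A, ∀ b ∈ A, Commute a b) → A ≠ ⊥ →
      (∀ v, (∀ a ∈ A, ρ a v = v) → v = 1) ∧ Nat.card A ≤ p) :
    ∃ v : V, ∀ r : P, r ^ p = 1 → r ≠ 1 → ρ r v ≠ v := by
  classical
  rcases subsingleton_or_nontrivial P with hs | hn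
  · exact ⟨1, fun r _ hr => absurd (Subsingleton.elim r 1) hr⟩
  haveI : Nontrivial V := by
    by_contra hV1
    haveI := not_nontrivial_iff_subsingleton.1 hV1
    obtain ⟨a, ha⟩ := exists_ne (1 : P)
    exact ha (hρ (MulEquiv.ext fun v => Subsingleton.elim _ _))
  let Z : Subgroup P :=
    { carrier := {a | a ^ p = 1 ∧ ∀ g, g * a = a * g}
      one_mem' := ⟨one_pow p, fun g => by simp⟩
      mul_mem' := fun {a b} ha hb => ⟨by
        rw [(show Commute a b from ha.2 b |>.symm).mul_pow, ha.1, hb.1, one_mul], fun g => by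
        rw [← mul_assoc, ha.2 g, mul_assoc, hb.2 g, mul_assoc]⟩
      inv_mem' := fun {a} ha => ⟨by rw [inv_pow, ha.1, inv_one], fun g =>
        ((show Commute g a from ha.2 g).inv_right).eq⟩ }
  have hZchar : Z.Characteristic := Subgroup.characteristic_iff_map_le.2 fun φ => by
    rintro _ ⟨a, ⟨ha1, ha2⟩, rfl⟩
    refine ⟨by rw [← map_pow, ha1, map_one], fun g => ?_⟩
    obtain ⟨g', rfl⟩ := φ.surjective g
    show φ g' * φ a = φ a * φ g'
    rw [← map_mul, ha2, map_mul]
  obtain ⟨z, hzmem, hz1⟩ : ∃ z ∈ Z, z ≠ 1 := by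
    haveI := hP.center_nontrivial
    obtain ⟨c, hc⟩ := exists_prime_orderOf_dvd_card' (G := Subgroup.center P) p (by
      obtain ⟨n, hn'⟩ := IsPGroup.iff_card.1 (hP.to_subgroup (Subgroup.center P))
      have h1 : 1 < Nat.card (Subgroup.center P) := Finite.one_lt_card
      rcases n with _ | n
      · rw [hn', pow_zero] at h1; omega
      · exact hn' ▸ dvd_pow_self p (by omega))
    refine ⟨c, ⟨?_, Subgroup.mem_center_iff.1 c.2⟩, fun e => ?_⟩
    · rw [← hc, ← Subgroup.orderOf_coe, pow_orderOf_eq_one]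
    · rw [← Subgroup.orderOf_coe, e, orderOf_one] at hc
      exact hp.out.one_lt.ne hc
  have hZne : Z ≠ ⊥ := fun h => hz1 (by rw [h] at hzmem; exact Subgroup.mem_bot.1 hzmem)
  obtain ⟨hZfix, hZcard⟩ := hA Z hZchar (fun a ha => ha.1) (fun a ha b _ => (ha.2 b).symm) hZne
  have hZeq : Z = zpowers z := (Subgroup.eq_of_le_of_card_ge (zpowers_le.2 hzmem) (by
    rw [Nat.card_zpowers, orderOf_eq_prime hzmem.1 hz1]; exact hZcard)).symm
  have hfree : ∀ v, ρ z v = v → v = 1 := fun v hv => hZfix v fun a ha => by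
    rw [hZeq] at ha
    obtain ⟨k, rfl⟩ := mem_powers_iff_mem_zpowers.2 ha
    rw [map_pow]; exact mem_fix1_of_fix hv k
  -- the subgroup `F`
  have hcmul : ∀ a b g : P, (∀ h, h * ⁅b, g⁆ = ⁅b, g⁆ * h) →
      ⁅a * b, g⁆ = ⁅b, g⁆ * ⁅a, g⁆ := fun a b g hc => by
    calc ⁅a * b, g⁆ = (a * ⁅b, g⁆ * a⁻¹) * ⁅a, g⁆ := by simp only [commutatorElement_def]; group
      _ = ⁅b, g⁆ * ⁅a, g⁆ := by rw [hc a, mul_inv_cancel_right]
  let F : Subgroup P :=
    { carrier := {a | a ^ p = 1 ∧ ∀ g h : P, h * ⁅a, g⁆ = ⁅a, g⁆ * h}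
      one_mem' := ⟨one_pow p, fun g h => by simp⟩
      mul_mem' := fun {a b} ha hb => by
        refine ⟨?_, fun g h => ?_⟩
        · have hc : b * a = ⁅b, a⁆ * (a * b) := by simp only [commutatorElement_def]; group
          rw [CfsgLib.PGroup.mul_pow_of_commute_commutator hc (hb.2 a a).symm (hb.2 a b).symm,
            ha.1, hb.1, one_mul, one_mul]
          obtain ⟨c, hc'⟩ := hp.out.dvd_choose_self two_ne_zero
            (by have := hp.out.two_le; omega)
          rw [hc', pow_mul, comm_pow_eq_one ha.1 (hb.2 a), one_pow]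
        · rw [hcmul a b g (hb.2 g), ← mul_assoc, hb.2 g h, mul_assoc, ha.2 g h, mul_assoc]
      inv_mem' := fun {a} ha => by
        refine ⟨by rw [inv_pow, ha.1, inv_one], fun g h => ?_⟩
        have e : ⁅a⁻¹, g⁆ = a⁻¹ * (⁅a, g⁆)⁻¹ * a := by simp only [commutatorElement_def]; group
        have hc : Commute h (⁅a, g⁆)⁻¹ := (show Commute h ⁅a, g⁆ from ha.2 g h).inv_right
        have hc' : Commute a⁻¹ (⁅a, g⁆)⁻¹ := (show Commute a⁻¹ ⁅a, g⁆ from ha.2 g a⁻¹).inv_right
        rw [e, hc'.eq, inv_mul_cancel_right, hc.eq] }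
  have hFcomm : ∀ a ∈ F, ∀ g : P, ⁅a, g⁆ ∈ zpowers z := fun a ha g => by
    rw [← hZeq]
    refine ⟨?_, ha.2 g⟩
    rw [← commutatorElement_inv, inv_pow, comm_pow_eq_one ha.1 (fun h => ?_), inv_one]
    rw [← commutatorElement_inv]
    exact ((show Commute h ⁅a, g⁆ from ha.2 g h).inv_right).eq
  have hFchar : F.Characteristic := Subgroup.characteristic_iff_map_le.2 fun φ => by
    rintro _ ⟨a, ⟨ha1, ha2⟩, rfl⟩
    refine ⟨by rw [← map_pow, ha1, map_one], fun g h => ?_⟩
    obtain ⟨g', rfl⟩ := φ.surjective g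
    obtain ⟨h', rfl⟩ := φ.surjective h
    show φ h' * ⁅φ a, φ g'⁆ = ⁅φ a, φ g'⁆ * φ h'
    rw [← map_commutatorElement, ← map_mul, ha2, map_mul]
  have hzF : z ∈ F := ⟨hzmem.1, fun g h => by
    rw [commutatorElement_eq_one_iff_mul_comm.2 (hzmem.2 g).symm]; simp⟩
  have hSmall : SympPairs.Small p z F :=
    ⟨hzmem.1, hz1, hzF, hzmem.2, fun a ha b _ => hFcomm a ha b⟩
  have hcenF : ∀ c ∈ F ⊓ centralizer (F : Set P), c ∈ zpowers z := by
    have hchar : (F ⊓ centralizer (F : Set P)).Characteristic :=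
      Subgroup.characteristic_iff_map_le.2 fun φ => by
        rintro _ ⟨a, ⟨haF, haC⟩, rfl⟩
        refine ⟨Subgroup.characteristic_iff_map_le.1 hFchar φ ⟨a, haF, rfl⟩,
          mem_centralizer_iff.2 fun d hd => ?_⟩
        obtain ⟨d', rfl⟩ := φ.surjective d
        have hd' : d' ∈ F := by
          have h1 := Subgroup.characteristic_iff_map_le.1 hFchar φ.symm ⟨φ d', hd, rfl⟩
          simpa using h1
        show φ d' * φ a = φ a * φ d'
        rw [← map_mul, mem_centralizer_iff.1 haC d' hd', map_mul]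
    have hzin : z ∈ F ⊓ centralizer (F : Set P) :=
      ⟨hzF, mem_centralizer_iff.2 fun d _ => hzmem.2 d⟩
    obtain ⟨-, hcard⟩ := hA _ hchar (fun a ha => ha.1.1)
      (fun a ha b hb => (mem_centralizer_iff.1 hb.2 a ha.1))
      (fun h => hz1 (by rw [h] at hzin; exact Subgroup.mem_bot.1 hzin))
    intro c hc
    rwa [Subgroup.eq_of_le_of_card_ge (zpowers_le.2 hzin)
      (by rw [Nat.card_zpowers, orderOf_eq_prime hzmem.1 hz1]; exact hcard)]
  -- elements of order `p` centralising `F`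
  haveI : F.Normal := inferInstance
  haveI := hP.isNilpotent
  have hC : ∀ x ∈ centralizer (F : Set P), x ^ p = 1 → x ∈ zpowers z := by
    have main : ∀ i, ∀ x ∈ centralizer (F : Set P), x ∈ Subgroup.upperCentralSeries P i →
        x ^ p = 1 → x ∈ zpowers z := by
      intro i
      induction i with
      | zero =>
        intro x _ hx _
        rw [Subgroup.upperCentralSeries_zero, Subgroup.mem_bot] at hx
        rw [hx]; exact one_mem _
      | succ i ih =>
        intro x hxC hxi hxp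
        by_contra hxz
        suffices hxF : x ∈ F from hxz (hcenF x ⟨hxF, hxC⟩)
        refine ⟨hxp, fun g h => ?_⟩
        set D := centralizer (F : Set P) ⊓ Subgroup.upperCentralSeries P i with hD
        have hcyc : IsCyclic D := by
          refine CfsgLib.Coprime.isCyclic_of_unique_odd hp2 (hP.to_subgroup D) ?_
          intro a b ha hb ha1
          have haz := ih a a.2.1 a.2.2 (by simpa using congrArg Subtype.val ha)
          have hbz := ih b b.2.1 b.2.2 (by simpa using congrArg Subtype.val hb)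
          have heq : zpowers (a : P) = zpowers z := Subgroup.eq_of_le_of_card_ge
            (zpowers_le.2 haz) (by
              rw [Nat.card_zpowers, Nat.card_zpowers, orderOf_eq_prime hzmem.1 hz1,
                orderOf_eq_prime (by simpa using congrArg Subtype.val ha)
                  (fun e => ha1 (Subtype.ext e))])
          obtain ⟨k, hk⟩ := mem_zpowers_iff.1 (heq ▸ hbz : (b : P) ∈ zpowers (a : P))
          exact ⟨k, Subtype.ext (by simpa using hk)⟩
        set d := g * x * g⁻¹ * x⁻¹ with hd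
        have hdD : d ∈ D := by
          refine Subgroup.mem_inf.2 ⟨mul_mem ((inferInstance : (centralizer (F : Set P)).Normal).conj_mem x hxC g)
            (inv_mem hxC), ?_⟩
          have h1 := inv_mem ((Subgroup.mem_upperCentralSeries_succ_iff.1 hxi) g)
          rw [commutatorElement_def] at h1
          simpa [hd, mul_assoc] using h1
        obtain ⟨d₀, hd₀⟩ := hcyc.exists_generator
        obtain ⟨k, hk⟩ := mem_powers_iff_mem_zpowers.2 (hd₀ ⟨x * d₀ * x⁻¹,
          (inferInstance : D.Normal).conj_mem d₀ d₀.2 x⟩)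
        have hk' : x * d * x⁻¹ = d ^ k := by
          obtain ⟨l, hl⟩ := mem_zpowers_iff.1 (hd₀ ⟨d, hdD⟩)
          have hl' : (d₀ : P) ^ l = d := congrArg Subtype.val hl
          have hk0 : (d₀ : P) ^ k = x * d₀ * x⁻¹ := congrArg Subtype.val hk
          rw [← hl', ← conj_zpow, ← hk0, ← zpow_natCast, ← zpow_natCast, ← zpow_mul, ← zpow_mul,
            mul_comm]
        let S : ℕ → ℕ := fun n => Nat.rec 0 (fun _ s => 1 + k * s) n
        have hS : ∀ n, (d * x) ^ n = d ^ S n * x ^ n := by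
          intro n
          induction n with
          | zero => simp [S]
          | succ n ihn =>
            have hxs : x * d ^ S n * x⁻¹ = d ^ (k * S n) := by
              rw [← conj_pow, hk', pow_mul]
            show (d * x) ^ (n + 1) = d ^ (1 + k * S n) * x ^ (n + 1)
            rw [pow_succ', ihn, pow_add, pow_one, ← hxs, pow_succ' x n]
            group
        have hdx : (d * x) ^ p = 1 := by
          rw [hd, inv_mul_cancel_right, conj_pow, hxp, mul_one, mul_inv_cancel]
        rw [hS, hxp, mul_one] at hdx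
        have hdp : d ^ p = 1 := by
          obtain ⟨e, he⟩ := IsPGroup.iff_orderOf.1 hP d
          by_contra hne
          have he2 : 2 ≤ e := by
            by_contra hlt
            refine hne ?_
            rw [← orderOf_dvd_iff_pow_eq_one, he]
            exact (pow_dvd_pow p (by omega : e ≤ 1)).trans (by rw [pow_one])
          have hkp : d ^ k ^ p = d := by
            have : ∀ j : ℕ, x ^ j * d * (x ^ j)⁻¹ = d ^ k ^ j := by
              intro j
              induction j with
              | zero => simp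
              | succ j ihj =>
                rw [pow_succ', pow_succ' k j, pow_mul, ← hk']
                calc x * x ^ j * d * (x * x ^ j)⁻¹ = x * (x ^ j * d * (x ^ j)⁻¹) * x⁻¹ := by group
                  _ = _ := by rw [ihj, conj_pow]
            rw [← this p, hxp]; simp
          have hkmod : (k : ZMod p) = 1 := by
            have h1 : k ^ p ≡ 1 [MOD orderOf d] :=
              pow_eq_pow_iff_modEq.1 (by rw [hkp, pow_one])
            have h2 : k ^ p ≡ 1 [MOD p] :=
              h1.of_dvd (he ▸ dvd_pow_self p (by omega))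
            have h3 := (ZMod.natCast_eq_natCast_iff _ _ _).2 h2
            rw [Nat.cast_pow, ZMod.pow_card, Nat.cast_one] at h3
            exact h3
          refine sq_not_dvd_geom hp2 (S := S) rfl (fun n => rfl) hkmod ?_
          exact ((pow_dvd_pow p he2).trans (he ▸ orderOf_dvd_of_pow_eq_one hdx))
        have hdz := ih d hdD.1 hdD.2 hdp
        have hcd : ∀ h : P, Commute h d := fun h => hSmall.central_of_mem hdz h
        have e : ⁅x, g⁆ = d⁻¹ := by rw [hd, commutatorElement_def]; group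
        rw [e]
        exact ((hcd h).inv_right).eq
    obtain ⟨n, hn'⟩ := Group.IsNilpotent.nilpotent P
    exact fun x hx hxp => main n x hx (hn' ▸ Subgroup.mem_top x) hxp
  have hall : ∀ r : P, r ^ p = 1 → r ∈ F := by
    intro r hr
    let f : P → P := fun w => ⁅w, r⁆
    obtain ⟨t, ht, htf⟩ := SympPairs.Small.dual p z F hSmall f
      (fun a ha b hb => by
        show ⁅a * b, r⁆ = ⁅a, r⁆ * ⁅b, r⁆
        rw [hcmul a b r (hb.2 r), hb.2 r])
      (fun a ha => hFcomm a ha r)
      (fun c hc => commutatorElement_eq_one_iff_mul_comm.2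
        (hSmall.central_of_mem (hcenF c hc) r).symm)
    set c := r * t⁻¹ with hc
    have hcC : c ∈ centralizer (F : Set P) := mem_centralizer_iff.2 fun w hw => by
      apply commutatorElement_eq_one_iff_mul_comm.1
      have h1 : ⁅w, c⁆ = ⁅w, r⁆ * (r * ⁅w, t⁻¹⁆ * r⁻¹) := by
        simp only [hc, commutatorElement_def]; group
      have h2 := hSmall.zpow_right hw ht (-1)
      rw [zpow_neg_one, zpow_neg_one] at h2
      rw [h1, h2, ← htf w hw]
      show ⁅w, r⁆ * (r * ⁅w, r⁆⁻¹ * r⁻¹) = 1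
      rw [((show Commute r ⁅w, r⁆ from hw.2 r r).inv_right).eq]
      group
    have hct : Commute c t := (mem_centralizer_iff.1 hcC t ht).symm
    have hcp : c ^ p = 1 := by
      have h1 := hct.mul_pow p
      rw [ht.1, mul_one, hc, inv_mul_cancel_right, hr] at h1
      exact h1.symm
    have := mul_mem (zpowers_le.2 hzF (hC c hcC hcp)) ht
    rwa [hc, inv_mul_cancel_right] at this
  obtain ⟨v, hv⟩ := exists_free ρ hp2 hV hfree hSmall (fun w hw => hw.1) hcenF
  exact ⟨v, fun r hr hr1 => hv r (hall r hr) hr1⟩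

end CfsgLib.FreeVec
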