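import Mathlib

/-!
# Subsets fixed by no conjugate of a `p`-element

If a normal `p`-subgroup `R` of `H` acts on a finite set and `x ∈ R` acts nontrivially, some
subset is fixed by no conjugate of `x`.
-/

set_option autoImplicit false
set_option linter.style.haveILetI false

namespace CfsgLib.FreeVec

open Subgroup

variable {H : Type*} [Group H] [Finite H]

universe v

theorem exists_unfixed_subset_aux {p : ℕ} [Fact p.Prime] (R : Subgroup H) [hRn : R.Normal]
    (hR : IsPGroup p R) {x : H} (hx : x ∈ R) (n : ℕ) :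
    ∀ (Ω : Type v) [Finite Ω] [MulAction H Ω], Nat.card Ω = n → (∃ ω : Ω, x • ω ≠ ω) →
      ∃ S : Set Ω, ∀ h : H, ¬ ∀ ω : Ω, (h * x * h⁻¹) • ω ∈ S ↔ ω ∈ S := by
  induction n using Nat.strong_induction_on with
  | _ n IH =>
  intro Ω _ _ hn hmove
  classical
  let Z : Subgroup H :=
    { carrier := {z | z ∈ R ∧ ∀ r ∈ R, ∀ ω : Ω, z • r • ω = r • z • ω}
      one_mem' := ⟨one_mem _, fun r _ ω => by rw [one_smul, one_smul]⟩
      mul_mem' := fun {a b} ha hb => ⟨mul_mem ha.1 hb.1, fun r hr ω => by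
        rw [mul_smul, hb.2 r hr ω, ha.2 r hr, mul_smul]⟩
      inv_mem' := fun {a} ha => ⟨inv_mem ha.1, fun r hr ω => by
        rw [inv_smul_eq_iff, ha.2 r hr, smul_inv_smul]⟩ }
  have hZn : ∀ z ∈ Z, ∀ h : H, h * z * h⁻¹ ∈ Z := by
    intro z hz h
    refine ⟨hRn.conj_mem z hz.1 h, fun r hr ω => ?_⟩
    have := hz.2 (h⁻¹ * r * h⁻¹⁻¹) (hRn.conj_mem r hr h⁻¹) (h⁻¹ • ω)
    rw [inv_inv] at this
    simp only [mul_smul, smul_inv_smul] at this ⊢
    rw [this, smul_inv_smul]
  have hZmove : ∃ z ∈ Z, ∃ ω : Ω, z • ω ≠ ω := by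
    let f : R →* Equiv.Perm Ω := (MulAction.toPermHom H Ω).comp R.subtype
    have hfp : IsPGroup p f.range := hR.of_surjective f.rangeRestrict f.rangeRestrict_surjective
    obtain ⟨ω, hω⟩ := hmove
    haveI : Nontrivial f.range := by
      refine ⟨⟨⟨f ⟨x, hx⟩, ⟨_, rfl⟩⟩, 1, fun h => hω ?_⟩⟩
      have := congrArg (fun e : f.range => (e : Equiv.Perm Ω) ω) h
      simpa [f] using this
    haveI := hfp.center_nontrivial
    obtain ⟨⟨c, hc⟩, hc1⟩ := exists_ne (1 : Subgroup.center f.range)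
    obtain ⟨⟨z, hz⟩, hzc⟩ := c.2
    have hzω : ∀ w, (c : Equiv.Perm Ω) w = z • w := fun w => by rw [← hzc]; rfl
    refine ⟨z, ⟨hz, fun r hr w => ?_⟩, ?_⟩
    · have h2 := Subgroup.mem_center_iff.1 hc ⟨f ⟨r, hr⟩, ⟨_, rfl⟩⟩
      have h3 := congrArg (fun e : f.range => (e : Equiv.Perm Ω) w) h2
      simp only [Subgroup.coe_mul, Equiv.Perm.coe_mul, Function.comp_apply, hzω] at h3
      simpa [f] using h3.symm
    · by_contra! hall
      refine hc1 (Subtype.ext (Subtype.ext (Equiv.ext fun w => ?_)))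
      show (c : Equiv.Perm Ω) w = w
      rw [hzω, hall w]
  let st : Setoid Ω :=
    { r := fun a b => ∃ z ∈ Z, z • a = b
      iseqv :=
        ⟨fun a => ⟨1, one_mem Z, one_smul _ a⟩,
          fun {a b} ⟨z, hz, e⟩ => ⟨z⁻¹, inv_mem hz, by rw [← e, inv_smul_smul]⟩,
          fun {a b c} ⟨z, hz, e⟩ ⟨w, hw, e'⟩ => ⟨w * z, mul_mem hw hz, by rw [mul_smul, e, e']⟩⟩ }
  have hcompat : ∀ (h : H) (a b : Ω), st.r a b → st.r (h • a) (h • b) := by
    rintro h a b ⟨z, hz, rfl⟩
    exact ⟨h * z * h⁻¹, hZn z hz h, by rw [mul_smul, mul_smul, inv_smul_smul]⟩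
  letI : MulAction H (Quotient st) :=
    { smul := fun h => Quotient.map' (h • ·) (fun a b hab => hcompat h a b hab)
      one_smul := fun q => Quotient.inductionOn' q fun a =>
        congrArg Quotient.mk'' (one_smul H a)
      mul_smul := fun g h q => Quotient.inductionOn' q fun a =>
        congrArg Quotient.mk'' (mul_smul g h a) }
  by_cases hqmove : ∃ q : Quotient st, x • q ≠ q
  · haveI : Finite (Quotient st) := Quotient.finite _
    have hlt : Nat.card (Quotient st) < n := by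
      rw [← hn]
      obtain ⟨z, hz, ω, hω⟩ := hZmove
      refine lt_of_le_of_ne (Nat.card_le_card_of_surjective _ (Quotient.mk_surjective (s := st)))
        fun he => ?_
      haveI := Fintype.ofFinite Ω
      haveI := Fintype.ofFinite (Quotient st)
      rw [Nat.card_eq_fintype_card, Nat.card_eq_fintype_card] at he
      have hinj := ((Fintype.bijective_iff_surjective_and_card _).2
        ⟨Quotient.mk_surjective (s := st), he.symm⟩).1
      exact hω (hinj (Quotient.sound (s := st) ⟨z⁻¹, inv_mem hz, inv_smul_smul z ω⟩))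
    obtain ⟨T, hT⟩ := IH _ hlt (Quotient st) rfl hqmove
    refine ⟨Quotient.mk st ⁻¹' T, fun h hall => hT h fun q => ?_⟩
    induction q using Quotient.inductionOn with
    | h a => exact hall a
  · push Not at hqmove
    refine ⟨Set.range (Quotient.out (s := st)), fun h hall => ?_⟩
    set y := h * x * h⁻¹ with hy
    have hyR : y ∈ R := hRn.conj_mem x hx h
    have hyq : ∀ q : Quotient st, y • q = q := fun q => by
      rw [hy, mul_smul, mul_smul, hqmove, smul_inv_smul]
    have hyout : ∀ q : Quotient st, y • q.out = q.out := by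
      intro q
      obtain ⟨q', hq'⟩ := (hall q.out).2 ⟨q, rfl⟩
      have e : q' = q := by
        rw [← Quotient.out_eq q', hq']
        show y • (Quotient.mk st q.out) = q
        rw [Quotient.out_eq, hyq]
      rw [← hq', e]
    have hyall : ∀ ω : Ω, y • ω = ω := by
      intro ω
      obtain ⟨z, hz, hzω⟩ := Quotient.exact (Quotient.out_eq (Quotient.mk st ω))
      rw [← hzω, ← hz.2 y hyR, hyout]
    obtain ⟨ω, hω⟩ := hmove
    apply hω
    have := hyall (h • ω)
    rw [hy, mul_smul, mul_smul, inv_smul_smul] at this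
    exact smul_left_cancel h this

/-- Some subset is fixed by no conjugate of `x`. -/
theorem exists_unfixed_subset {p : ℕ} [Fact p.Prime] (R : Subgroup H) [R.Normal]
    (hR : IsPGroup p R) {x : H} (hx : x ∈ R) (Ω : Type v) [Finite Ω] [MulAction H Ω]
    (hmove : ∃ ω : Ω, x • ω ≠ ω) :
    ∃ S : Set Ω, ∀ h : H, ¬ ∀ ω : Ω, (h * x * h⁻¹) • ω ∈ S ↔ ω ∈ S :=
  exists_unfixed_subset_aux R hR hx _ Ω rfl hmove

end CfsgLib.FreeVec
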