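import Mathlib
import Cfsg.Agent.Lib.PGroup.FreeVector.Subset
import Cfsg.Agent.Lib.PGroup.FreeVector.Primitive

/-!
# A vector fixed by no conjugate of a `p`-element, `p` odd

`R` a normal `p`-subgroup of `H`, `H` acting on a coprime finite commutative group `V`, `x ∈ R` of
order `p` acting nontrivially: some vector is fixed by no conjugate of `x`.
-/

set_option autoImplicit false
set_option linter.style.haveILetI false

namespace CfsgLib.FreeVec

open Subgroup
open scoped Pointwise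

variable {H : Type*} [Group H] [Finite H] {V : Type*} [CommGroup V] [Finite V]
  [MulDistribMulAction H V]

variable (H) in
/-- An `H`-stable decomposition of `V`. -/
structure IsDec (𝒲 : Finset (Subgroup V)) : Prop where
  ne_bot : ∀ W ∈ 𝒲, W ≠ ⊥
  indep : Indep 𝒲
  sup_eq : 𝒲.sup id = ⊤
  stable : ∀ h : H, ∀ W ∈ 𝒲, h • W ∈ 𝒲

omit [Finite H] in
theorem exists_dec_refine {𝒲 : Finset (Subgroup V)} (hd : IsDec H 𝒲) {W : Subgroup V}
    (hW : W ∈ 𝒲) {𝒰 : Finset (Subgroup V)} (hle : ∀ U ∈ 𝒰, U ≤ W) (hne : ∀ U ∈ 𝒰, U ≠ ⊥)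
    (hind : Indep 𝒰) (hsup : W ≤ 𝒰.sup id) (h2 : 2 ≤ 𝒰.card)
    (hst : ∀ h : H, h • W = W → ∀ U ∈ 𝒰, h • U ∈ 𝒰) :
    ∃ 𝒲' : Finset (Subgroup V), IsDec H 𝒲' ∧ 𝒲.card < 𝒲'.card := by
  classical
  haveI := Fintype.ofFinite (Subgroup V)
  let N : Finset (Subgroup V) := Finset.univ.filter fun U =>
    (U ∈ 𝒲 ∧ ∀ h : H, h • W ≠ U) ∨ ∃ h : H, ∃ U0 ∈ 𝒰, h • U0 = U
  have hmemN : ∀ U, U ∈ N ↔ (U ∈ 𝒲 ∧ ∀ h : H, h • W ≠ U) ∨ ∃ h : H, ∃ U0 ∈ 𝒰, h • U0 = U :=
    fun U => by simp [N]
  have hne' : ∀ U ∈ N, U ≠ ⊥ := by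
    intro U hU h0
    rcases (hmemN U).1 hU with ⟨hU', -⟩ | ⟨h, U0, hU0, rfl⟩
    · exact hd.ne_bot U hU' h0
    · refine hne U0 hU0 ((Subgroup.eq_bot_iff_forall _).2 fun v hv => ?_)
      have := Subgroup.smul_mem_pointwise_smul v h U0 hv
      rw [h0, Subgroup.mem_bot] at this
      exact smul_left_cancel h (this.trans (smul_one h).symm)
  have hmono : ∀ (h : H) {A B : Subgroup V}, A ≤ B → h • A ≤ h • B := fun h _ _ hAB v hv => by
    rw [Subgroup.mem_pointwise_smul_iff_inv_smul_mem] at hv ⊢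
    exact hAB hv
  have hpar : ∀ U ∈ N, ∃ P ∈ 𝒲, U ≤ P := by
    intro U hU
    rcases (hmemN U).1 hU with ⟨hU', -⟩ | ⟨h, U0, hU0, rfl⟩
    · exact ⟨U, hU', le_rfl⟩
    · exact ⟨h • W, hd.stable h W hW, hmono h (hle U0 hU0)⟩
  have huniq : ∀ U ∈ N, ∀ P ∈ 𝒲, ∀ Q ∈ 𝒲, U ≤ P → U ≤ Q → P = Q := by
    intro U hU P hP Q hQ hUP hUQ
    obtain ⟨v, hv, hv1⟩ : ∃ v ∈ U, v ≠ 1 := by
      by_contra! hall
      exact hne' U hU ((Subgroup.eq_bot_iff_forall _).2 hall)
    exact hd.indep.eq_of_mem hP hQ (hUP hv) (hUQ hv) hv1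
  choose π hπ hπle using hpar
  let par : Subgroup V → Subgroup V := fun U => if hU : U ∈ N then π U hU else W
  have hparmem : ∀ U ∈ N, par U ∈ 𝒲 := fun U hU => by simp only [par, dif_pos hU]; exact hπ U hU
  have hpar_eq : ∀ U ∈ N, ∀ P ∈ 𝒲, par U = P ↔ U ≤ P := by
    intro U hU P hP
    simp only [par, dif_pos hU]
    exact ⟨fun e => e ▸ hπle U hU, fun hUP => huniq U hU _ (hπ U hU) P hP (hπle U hU) hUP⟩
  have hfib : ∀ h : H, N.filter (fun U => par U = h • W) = 𝒰.image (fun U0 => h • U0) := by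
    intro h
    ext U
    simp only [Finset.mem_filter, Finset.mem_image]
    constructor
    · rintro ⟨hU, hUP⟩
      have hUle := (hpar_eq U hU _ (hd.stable h W hW)).1 hUP
      rcases (hmemN U).1 hU with ⟨hU', hno⟩ | ⟨k, U0, hU0, rfl⟩
      · exact absurd (huniq U hU _ (hd.stable h W hW) U hU' hUle le_rfl) (hno h)
      · have heq := huniq _ hU _ (hd.stable k W hW) _ (hd.stable h W hW) (hmono k (hle U0 hU0)) hUle
        refine ⟨(h⁻¹ * k) • U0, hst _ ?_ U0 hU0, ?_⟩
        · rw [mul_smul, heq, inv_smul_smul]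
        · rw [mul_smul, smul_inv_smul]
    · rintro ⟨U0, hU0, rfl⟩
      have hm : h • U0 ∈ N := (hmemN _).2 (Or.inr ⟨h, U0, hU0, rfl⟩)
      exact ⟨hm, (hpar_eq _ hm _ (hd.stable h W hW)).2 (hmono h (hle U0 hU0))⟩
  have hfib' : ∀ P ∈ 𝒲, (∀ h : H, h • W ≠ P) → N.filter (fun U => par U = P) = {P} := by
    intro P hP hno
    ext U
    simp only [Finset.mem_filter, Finset.mem_singleton]
    constructor
    · rintro ⟨hU, hUP⟩
      have hUle := (hpar_eq U hU P hP).1 hUP
      rcases (hmemN U).1 hU with ⟨hU', -⟩ | ⟨k, U0, hU0, rfl⟩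
      · exact huniq U hU U hU' P hP le_rfl hUle
      · exact absurd (huniq _ hU _ (hd.stable k W hW) P hP (hmono k (hle U0 hU0)) hUle) (hno k)
    · rintro rfl
      have hm : U ∈ N := (hmemN U).2 (Or.inl ⟨hP, hno⟩)
      exact ⟨hm, (hpar_eq U hm U hP).2 le_rfl⟩
  refine ⟨N, ⟨hne', ?_, ?_, ?_⟩, ?_⟩
  · intro f hf hprod U hU
    let g : Subgroup V → V := fun P => ∏ U ∈ N.filter (fun U => par U = P), f U
    have hg : ∀ P ∈ 𝒲, g P ∈ P := fun P hP => Subgroup.prod_mem P fun U hU => by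
      obtain ⟨hUN, hUP⟩ := Finset.mem_filter.1 hU
      exact (hpar_eq U hUN P hP).1 hUP (hf U hUN)
    have hg1 : ∏ P ∈ 𝒲, g P = 1 := by
      rw [← hprod]
      exact Finset.prod_fiberwise_of_maps_to (fun U hU => hparmem U hU) f
    have hPU := hd.indep g hg hg1 (par U) (hparmem U hU)
    by_cases hno : ∀ h : H, h • W ≠ par U
    · have hsingle := hfib' _ (hparmem U hU) hno
      have hUmem : U ∈ N.filter (fun U' => par U' = par U) := Finset.mem_filter.2 ⟨hU, rfl⟩
      rw [hsingle, Finset.mem_singleton] at hUmem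
      simp only [g] at hPU
      rw [hsingle, Finset.prod_singleton, ← hUmem] at hPU
      exact hPU
    · push Not at hno
      obtain ⟨h, hh⟩ := hno
      have hUmem : U ∈ N.filter (fun U' => par U' = h • W) := Finset.mem_filter.2 ⟨hU, hh.symm⟩
      rw [hfib h, Finset.mem_image] at hUmem
      obtain ⟨U0, hU0, rfl⟩ := hUmem
      simp only [g] at hPU
      rw [← hh, hfib h, Finset.prod_image (fun a _ b _ e => MulAction.injective h e)] at hPU
      have hall := hind (fun U1 => h⁻¹ • f (h • U1)) (fun U1 hU1 => by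
        rw [← Subgroup.mem_pointwise_smul_iff_inv_smul_mem]
        exact hf _ ((hmemN _).2 (Or.inr ⟨h, U1, hU1, rfl⟩))) (by
        rw [← Finset.smul_prod' (r := h⁻¹), hPU, smul_one]) U0 hU0
      exact smul_left_cancel h⁻¹ (hall.trans (smul_one h⁻¹).symm)
  · rw [eq_top_iff, ← hd.sup_eq]
    refine Finset.sup_le fun P hP => ?_
    by_cases hno : ∀ h : H, h • W ≠ P
    · exact Finset.le_sup (f := id) ((hmemN P).2 (Or.inl ⟨hP, hno⟩))
    · push Not at hno
      obtain ⟨h, rfl⟩ := hno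
      have h1 : W ≤ h⁻¹ • N.sup id := hsup.trans (Finset.sup_le fun U0 hU0 => by
        have := hmono h⁻¹ (Finset.le_sup (f := id) ((hmemN (h • U0)).2 (Or.inr ⟨h, U0, hU0, rfl⟩)))
        rwa [id, inv_smul_smul] at this)
      have h2 := hmono h h1
      rwa [smul_inv_smul] at h2
  · intro k U hU
    rcases (hmemN U).1 hU with ⟨hU', hno⟩ | ⟨h, U0, hU0, rfl⟩
    · refine (hmemN _).2 (Or.inl ⟨hd.stable k U hU', fun h e => hno (k⁻¹ * h) ?_⟩)
      rw [mul_smul, e, inv_smul_smul]
    · exact (hmemN _).2 (Or.inr ⟨k * h, U0, hU0, mul_smul k h U0⟩)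
  · rw [Finset.card_eq_sum_card_fiberwise (f := par) (s := N) (t := 𝒲) (fun U hU => hparmem U hU)]
    conv_lhs => rw [Finset.card_eq_sum_ones]
    have hcard : ∀ h : H, 2 ≤ (N.filter (fun U => par U = h • W)).card := fun h => by
      rw [hfib h, Finset.card_image_of_injective _ (MulAction.injective h)]
      exact h2
    refine Finset.sum_lt_sum (fun P hP => ?_) ⟨W, hW, ?_⟩
    · by_cases hno : ∀ h : H, h • W ≠ P
      · rw [hfib' P hP hno, Finset.card_singleton]
      · push Not at hno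
        obtain ⟨h, rfl⟩ := hno
        have := hcard h
        omega
    · have := hcard 1
      rwa [one_smul] at this

/-- The action of the stabiliser of `W` on `W`. -/
def stabHom (W : Subgroup V) : MulAction.stabilizer H W →* MulAut W where
  toFun g :=
    { toFun := fun v => ⟨(g : H) • (v : V), by
        have := Subgroup.smul_mem_pointwise_smul (v : V) (g : H) W v.2
        rwa [show (g : H) • W = W from g.2] at this⟩
      invFun := fun v => ⟨(g : H)⁻¹ • (v : V), by
        have := Subgroup.smul_mem_pointwise_smul (v : V) (g : H)⁻¹ W v.2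
        rwa [show (g : H)⁻¹ • W = W from (g⁻¹).2] at this⟩
      left_inv := fun v => Subtype.ext (inv_smul_smul _ _)
      right_inv := fun v => Subtype.ext (smul_inv_smul _ _)
      map_mul' := fun v w => Subtype.ext (smul_mul' _ _ _) }
  map_one' := MulEquiv.ext fun v => Subtype.ext (one_smul H (v : V))
  map_mul' g h := MulEquiv.ext fun v => Subtype.ext (mul_smul (g : H) (h : H) (v : V))

/-- Some vector is fixed by no conjugate of `x`. -/
theorem exists_free_vector {p : ℕ} [hp : Fact p.Prime] (hp2 : p ≠ 2) (R : Subgroup H) [hRn : R.Normal]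
    (hR : IsPGroup p R) (hV : (Nat.card V).Coprime p) {x : H} (hx : x ∈ R) (hxp : x ^ p = 1)
    (hmove : ∃ v : V, x • v ≠ v) :
    ∃ v : V, ∀ h : H, (h * x * h⁻¹) • v ≠ v := by
  classical
  haveI := Fintype.ofFinite (Subgroup V)
  obtain ⟨v0, hv0⟩ := hmove
  have htop : IsDec H ({⊤} : Finset (Subgroup V)) := by
    refine ⟨?_, ?_, by simp, ?_⟩
    · simp only [Finset.mem_singleton, forall_eq]
      intro h
      refine hv0 ?_
      have hall : ∀ v : V, v = 1 := fun v => Subgroup.mem_bot.1 (h ▸ Subgroup.mem_top v)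
      rw [hall v0, smul_one]
    · intro f _ hprod U hU
      rw [Finset.mem_singleton] at hU
      subst hU
      simpa using hprod
    · intro h U hU
      rw [Finset.mem_singleton] at hU ⊢
      subst hU
      ext v
      simp [Subgroup.mem_pointwise_smul_iff_inv_smul_mem]
  obtain ⟨𝒲, h𝒲, hmax⟩ := Finset.exists_max_image
    (Finset.univ.filter fun 𝒲 : Finset (Subgroup V) => IsDec H 𝒲) Finset.card
    ⟨{⊤}, Finset.mem_filter.2 ⟨Finset.mem_univ _, htop⟩⟩
  obtain ⟨-, hd⟩ := Finset.mem_filter.1 h𝒲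
  have hsupex : ∀ v : V, ∃ f : Subgroup V → V, (∀ W ∈ 𝒲, f W ∈ W) ∧ ∏ W ∈ 𝒲, f W = v :=
    fun v => exists_expr 𝒲 (hd.sup_eq ▸ Subgroup.mem_top v)
  by_cases hperm : ∃ W ∈ 𝒲, x • W ≠ W
  · letI : MulAction H {W // W ∈ 𝒲} :=
      { smul := fun h W => ⟨h • (W : Subgroup V), hd.stable h W W.2⟩
        one_smul := fun W => Subtype.ext (one_smul H (W : Subgroup V))
        mul_smul := fun g h W => Subtype.ext (mul_smul g h (W : Subgroup V)) }
    obtain ⟨W1, hW1, hmv⟩ := hperm
    obtain ⟨S, hS⟩ := exists_unfixed_subset R hR hx {W // W ∈ 𝒲}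
      ⟨⟨W1, hW1⟩, fun e => hmv (congrArg Subtype.val e)⟩
    have hex : ∀ W : Subgroup V, ∃ e, W ∈ 𝒲 → e ∈ W ∧ e ≠ 1 := by
      intro W
      by_cases hW : W ∈ 𝒲
      · obtain ⟨e, he, he1⟩ : ∃ e ∈ W, e ≠ 1 := by
          by_contra! hall
          exact hd.ne_bot W hW ((Subgroup.eq_bot_iff_forall _).2 hall)
        exact ⟨e, fun _ => ⟨he, he1⟩⟩
      · exact ⟨1, fun h => absurd h hW⟩
    choose e he using hex
    let g : Subgroup V → V := fun W => if hW : W ∈ 𝒲 then (if ⟨W, hW⟩ ∈ S then e W else 1) else 1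
    refine ⟨∏ W ∈ 𝒲, g W, fun h hfix => hS h fun ω => ?_⟩
    set y := h * x * h⁻¹ with hy
    have hgmem : ∀ W ∈ 𝒲, g W ∈ W := by
      intro W hW
      simp only [g, dif_pos hW]
      split_ifs
      · exact (he W hW).1
      · exact one_mem W
    have hgne : ∀ W, ∀ hW : W ∈ 𝒲, g W ≠ 1 ↔ (⟨W, hW⟩ : {W // W ∈ 𝒲}) ∈ S := by
      intro W hW
      simp only [g, dif_pos hW]
      split_ifs with hS'
      · exact iff_of_true (he W hW).2 hS'
      · simp [hS']
    have hreindex : y • ∏ W ∈ 𝒲, g W = ∏ W ∈ 𝒲, y • g (y⁻¹ • W) := by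
      rw [Finset.smul_prod']
      refine Finset.prod_nbij' (fun W => y • W) (fun W => y⁻¹ • W) (fun W hW => hd.stable y W hW)
        (fun W hW => hd.stable y⁻¹ W hW) (fun W _ => inv_smul_smul y W)
        (fun W _ => smul_inv_smul y W) (fun W _ => ?_)
      rw [inv_smul_smul]
    rw [hreindex] at hfix
    have key := hd.indep (fun W => (y • g (y⁻¹ • W)) * (g W)⁻¹) (fun W hW => mul_mem (by
        have := Subgroup.smul_mem_pointwise_smul _ y _ (hgmem _ (hd.stable y⁻¹ W hW))
        rwa [smul_inv_smul] at this) (inv_mem (hgmem W hW))) (by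
        rw [Finset.prod_mul_distrib, Finset.prod_inv_distrib, hfix, mul_inv_cancel])
      _ (hd.stable y ω ω.2)
    rw [inv_smul_smul, mul_inv_eq_one] at key
    have h1 := hgne _ (hd.stable y ω ω.2)
    rw [← key] at h1
    have h2 : y • g (ω : Subgroup V) ≠ 1 ↔ g (ω : Subgroup V) ≠ 1 := by
      rw [ne_eq, ne_eq, not_iff_not]
      exact ⟨fun e => smul_left_cancel y (e.trans (smul_one y).symm), fun e => by rw [e, smul_one]⟩
    exact (h1.symm.trans h2).trans (hgne _ ω.2)
  push Not at hperm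
  have hblock : ∀ W, ∃ w : V, W ∈ 𝒲 → w ∈ W ∧
      ∀ r ∈ R, r ^ p = 1 → r • W = W → r • w = w → ∀ v ∈ W, r • v = v := by
    intro W
    by_cases hW : W ∈ 𝒲
    swap
    · exact ⟨1, fun h => absurd h hW⟩
    set St := MulAction.stabilizer H W with hSt
    set Q := (R.subgroupOf St).map (stabHom W) with hQ
    have hQp : IsPGroup p Q := (hR.comap_of_injective St.subtype St.subtype_injective).map _
    have hcop : (Nat.card W).Coprime p := hV.coprime_dvd_left (Subgroup.card_subgroup_dvd_card W)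
    have hcond : ∀ A : Subgroup Q, A.Characteristic → (∀ a ∈ A, a ^ p = 1) →
        (∀ a ∈ A, ∀ b ∈ A, Commute a b) → A ≠ ⊥ →
        (∀ v, (∀ a ∈ A, Q.subtype a v = v) → v = 1) ∧ Nat.card A ≤ p := by
      intro A hAc hAe hAcomm hA0
      set A' := A.map Q.subtype with hA'
      set K := (stabHom (H := H) W).range with hK
      have hAK : ∀ g ∈ K, ∀ a ∈ A', g * a * g⁻¹ ∈ A' := by
        rintro g ⟨k, rfl⟩ _ ⟨a, ha, rfl⟩
        have hQn : ∀ (k : St) (b : MulAut W), b ∈ Q → stabHom W k * b * (stabHom W k)⁻¹ ∈ Q := by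
          rintro k _ ⟨r, hr, rfl⟩
          refine ⟨k * r * k⁻¹, hRn.conj_mem (r : H) hr (k : H), ?_⟩
          rw [map_mul, map_mul, map_inv]
        let φ : Q ≃* Q :=
          { toFun := fun b => ⟨_, hQn k b b.2⟩
            invFun := fun b => ⟨_, hQn k⁻¹ b b.2⟩
            left_inv := fun b => Subtype.ext (by simp [map_inv, mul_assoc])
            right_inv := fun b => Subtype.ext (by simp [map_inv, mul_assoc])
            map_mul' := fun b c => Subtype.ext (by simp [mul_assoc]) }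
        exact ⟨φ a, Subgroup.characteristic_iff_map_le.1 hAc φ ⟨a, ha, rfl⟩, rfl⟩
      have hA'e : ∀ a ∈ A', a ^ p = 1 := by
        rintro _ ⟨a, ha, rfl⟩
        rw [← map_pow, hAe a ha, map_one]
      have hA'c : ∀ a ∈ A', ∀ b ∈ A', Commute a b := by
        rintro _ ⟨a, ha, rfl⟩ _ ⟨b, hb, rfl⟩
        exact (hAcomm a ha b hb).map _
      have hA'pow : ∃ k, Nat.card A' = p ^ k :=
        IsPGroup.iff_card.1 ((hQp.to_subgroup A).map _)
      have hA'ne : A' ≠ ⊥ := fun h =>
        hA0 ((Subgroup.map_eq_bot_iff_of_injective _ Q.subtype_injective).1 h)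
      have hbad : ∀ 𝒰 : Finset (Subgroup W), ¬ IsPart (K : Set (MulAut W)) 𝒰 := by
        intro 𝒰 h𝒰
        have hinj : Function.Injective (fun U : Subgroup W => U.map W.subtype) :=
          Subgroup.map_injective W.subtype_injective
        obtain ⟨𝒲', hd', hlt⟩ := exists_dec_refine hd hW (𝒰 := 𝒰.image fun U => U.map W.subtype)
          (fun U hU => by
            obtain ⟨U0, -, rfl⟩ := Finset.mem_image.1 hU
            exact Subgroup.map_subtype_le U0)
          (fun U hU => by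
            obtain ⟨U0, hU0, rfl⟩ := Finset.mem_image.1 hU
            exact fun h0 => h𝒰.ne_bot U0 hU0
              ((Subgroup.map_eq_bot_iff_of_injective _ W.subtype_injective).1 h0))
          (fun f hf hprod U hU => by
            obtain ⟨U0, hU0, rfl⟩ := Finset.mem_image.1 hU
            have hfW : ∀ U1, ∃ u : W, U1 ∈ 𝒰 → u ∈ U1 ∧ (u : V) = f (U1.map W.subtype) := by
              intro U1
              by_cases h1 : U1 ∈ 𝒰
              · obtain ⟨u, hu, he⟩ := hf _ (Finset.mem_image_of_mem _ h1)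
                exact ⟨u, fun _ => ⟨hu, he⟩⟩
              · exact ⟨1, fun h => absurd h h1⟩
            choose F hF using hfW
            rw [Finset.prod_image (fun a _ b _ e => hinj e)] at hprod
            have := h𝒰.indep F (fun U1 h1 => (hF U1 h1).1) (by
              apply Subtype.ext
              rw [SubmonoidClass.coe_finset_prod, OneMemClass.coe_one, ← hprod]
              exact Finset.prod_congr rfl fun U1 h1 => (hF U1 h1).2) U0 hU0
            rw [← (hF U0 hU0).2, this, OneMemClass.coe_one])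
          (fun v hv => by
            have h1 : (⟨v, hv⟩ : W) ∈ 𝒰.sup id := h𝒰.sup_eq ▸ Subgroup.mem_top _
            obtain ⟨F, hF, hprod⟩ := exists_expr 𝒰 h1
            have e : v = ∏ U ∈ 𝒰, (F U : V) := by
              rw [← SubmonoidClass.coe_finset_prod, hprod]
            rw [e]
            exact Subgroup.prod_mem _ fun U hU =>
              Finset.le_sup (f := id) (Finset.mem_image_of_mem (fun U : Subgroup W => U.map W.subtype) hU)
                ⟨F U, hF U hU, rfl⟩)
          (by rw [Finset.card_image_of_injective _ hinj]; exact h𝒰.two_le)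
          (fun h hh U hU => by
            obtain ⟨U0, hU0, rfl⟩ := Finset.mem_image.1 hU
            refine Finset.mem_image.2 ⟨_, h𝒰.stable (stabHom W ⟨h, hh⟩) ⟨_, rfl⟩ U0 hU0, ?_⟩
            ext v
            rw [Subgroup.mem_pointwise_smul_iff_inv_smul_mem]
            constructor
            · rintro ⟨_, ⟨u, hu, rfl⟩, rfl⟩
              exact ⟨u, hu, (inv_smul_smul h (u : V)).symm⟩
            · rintro ⟨u, hu, he⟩
              refine ⟨_, ⟨u, hu, rfl⟩, ?_⟩
              show h • (u : V) = v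
              rw [show (u : V) = h⁻¹ • v from he, smul_inv_smul])
        exact absurd (hmax 𝒲' (Finset.mem_filter.2 ⟨Finset.mem_univ _, hd'⟩)) (not_le.2 hlt)
      have hfix0 : fixd A' = ⊥ := by
        by_contra h0
        obtain ⟨𝒰, h𝒰⟩ := exists_part_fixed hcop A' hA'pow hA'ne h0 K hAK
        exact hbad 𝒰 h𝒰
      refine ⟨fun v hv => Subgroup.mem_bot.1 (hfix0 ▸ (?_ : v ∈ fixd A')), ?_⟩
      · rintro _ ⟨a, ha, rfl⟩
        exact hv a ha
      · by_contra hcard
        push Not at hcard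
        obtain ⟨𝒰, h𝒰⟩ := exists_part_hyperplanes hcop A' hA'e hA'c
          (by rwa [hA', Subgroup.card_map_of_injective Q.subtype_injective]) hfix0 K hAK
        exact hbad 𝒰 h𝒰
    obtain ⟨w, hw⟩ := exists_free_of_charCyclic (ρ := Q.subtype) hp2 hQp hcop Q.subtype_injective
      hcond
    refine ⟨(w : V), fun _ => ⟨w.2, fun r hrR hrp hrW hrw v hv => ?_⟩⟩
    set q : Q := ⟨stabHom W ⟨r, hrW⟩, ⟨⟨r, hrW⟩, hrR, rfl⟩⟩ with hq
    have hq1 : q = 1 := by
      by_contra hne
      refine hw q ?_ hne (Subtype.ext hrw)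
      apply Subtype.ext
      show stabHom W ⟨r, hrW⟩ ^ p = 1
      rw [← map_pow, show (⟨r, hrW⟩ : St) ^ p = 1 from Subtype.ext hrp, map_one]
    exact congrArg (fun e : Q => (((e : MulAut W) ⟨v, hv⟩ : W) : V)) hq1
  choose w hw using hblock
  refine ⟨∏ W ∈ 𝒲, w W, fun h hfix => hv0 ?_⟩
  set y := h * x * h⁻¹ with hy
  have hyW : ∀ W ∈ 𝒲, y • W = W := fun W hW => by
    rw [hy, mul_smul, mul_smul, hperm _ (hd.stable h⁻¹ W hW), smul_inv_smul]
  have key := hd.indep (fun W => (y • w W) * (w W)⁻¹) (fun W hW => mul_mem (by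
      have := Subgroup.smul_mem_pointwise_smul _ y _ (hw W hW).1
      rwa [hyW W hW] at this) (inv_mem (hw W hW).1)) (by
      rw [Finset.prod_mul_distrib, Finset.prod_inv_distrib, ← Finset.smul_prod', hfix,
        mul_inv_cancel])
  have hyp : y ^ p = 1 := by rw [hy, conj_pow, hxp, mul_one, mul_inv_cancel]
  have hyall : ∀ v : V, y • v = v := by
    intro v
    obtain ⟨f, hf, rfl⟩ := hsupex v
    rw [Finset.smul_prod']
    exact Finset.prod_congr rfl fun W hW => (hw W hW).2 y (hRn.conj_mem x hx h) hyp (hyW W hW)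
      (mul_inv_eq_one.1 (key W hW)) _ (hf W hW)
  have := hyall (h • v0)
  rw [hy, mul_smul, mul_smul, inv_smul_smul] at this
  exact smul_left_cancel h this

end CfsgLib.FreeVec
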